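import Mathlib
import Cfsg.Agent.Janko.Orders
import Cfsg.Agent.Walter.Setting

/-!
The consequences of the shape of the spectrum of the square of the first Janko group.
-/

set_option autoImplicit false

namespace Cfsg.Lib.JankoSquare

universe u v

/-- The orders maximal under divisibility in the first Janko group. -/
def maxOrd : List ℕ := [6, 10, 15, 7, 11, 19]

/-- The candidate element orders. -/
def okN (n : ℕ) : Bool := maxOrd.any fun a => maxOrd.any fun b => Nat.lcm a b % n == 0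

/-- Every element order divides the least common multiple of two maximal orders of the first Janko group. -/
structure Shape (G : Type u) [Group G] : Prop where
  shape : ∀ g : G, ∃ a ∈ maxOrd, ∃ b ∈ maxOrd, orderOf g ∣ Nat.lcm a b

theorem okN_of_dvd {a b n : ℕ} (ha : a ∈ maxOrd) (hb : b ∈ maxOrd) (h : n ∣ Nat.lcm a b) : okN n = true :=
  List.any_eq_true.2 ⟨a, ha, List.any_eq_true.2 ⟨b, hb, beq_iff_eq.2 (Nat.mod_eq_zero_of_dvd h)⟩⟩

theorem lcm_facts : ∀ a ∈ maxOrd, ∀ b ∈ maxOrd, Nat.lcm a b ∣ 2 * 3 * 5 * 7 * 11 * 19 := by decide +kernel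

theorem lcm_bound : ∀ a ∈ maxOrd, ∀ b ∈ maxOrd, Nat.lcm a b ≤ 285 := by decide +kernel

theorem janko_orders : ∀ n ∈ ([1, 2, 3, 5, 6, 7, 10, 11, 15, 19] : List ℕ), ∃ a ∈ maxOrd, n ∣ a := by
  decide +kernel

theorem prime_of_dvd {p : ℕ} (hp : p.Prime) (h : p ∣ 2 * 3 * 5 * 7 * 11 * 19) :
    p ∈ ([2, 3, 5, 7, 11, 19] : List ℕ) := by
  rcases hp.dvd_mul.1 h with h | h
  · rcases hp.dvd_mul.1 h with h | h
    · rcases hp.dvd_mul.1 h with h | h
      · rcases hp.dvd_mul.1 h with h | h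
        · rcases hp.dvd_mul.1 h with h | h <;> rw [(Nat.prime_dvd_prime_iff_eq hp (by norm_num)).1 h] <;> simp
        · rw [(Nat.prime_dvd_prime_iff_eq hp (by norm_num)).1 h]; simp
      · rw [(Nat.prime_dvd_prime_iff_eq hp (by norm_num)).1 h]; simp
    · rw [(Nat.prime_dvd_prime_iff_eq hp (by norm_num)).1 h]; simp
  · rw [(Nat.prime_dvd_prime_iff_eq hp (by norm_num)).1 h]; simp

theorem no_square : ∀ p ∈ ([2, 3, 5, 7, 11, 19] : List ℕ), okN (p * p) = false := by decide +kernel

namespace Shape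

variable {G : Type u} [Group G]

theorem of_injective (S : Shape G) {H : Type v} [Group H] (f : H →* G) (hf : Function.Injective f) : Shape H :=
  ⟨fun h => by rw [← orderOf_injective f hf h]; exact S.shape _⟩

theorem of_surjective (S : Shape G) {H : Type v} [Group H] (f : G →* H) (hf : Function.Surjective f) : Shape H :=
  ⟨fun h => by
    obtain ⟨g, rfl⟩ := hf h
    obtain ⟨a, ha, b, hb, hab⟩ := S.shape g
    exact ⟨a, ha, b, hb, (orderOf_map_dvd f g).trans hab⟩⟩

theorem subgroup (S : Shape G) (H : Subgroup G) : Shape H := S.of_injective H.subtype H.subtype_injective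

theorem ok (S : Shape G) {g : G} {n : ℕ} (h : n ∣ orderOf g) : okN n = true := by
  obtain ⟨a, ha, b, hb, hab⟩ := S.shape g
  exact okN_of_dvd ha hb (h.trans hab)

theorem not_dvd (S : Shape G) (g : G) {n : ℕ} (hn : okN n = false) : ¬ n ∣ orderOf g := fun h => by
  rw [S.ok h] at hn
  exact Bool.noConfusion hn

theorem order_le (S : Shape G) (g : G) : orderOf g ≤ 285 := by
  obtain ⟨a, ha, b, hb, hab⟩ := S.shape g
  refine (Nat.le_of_dvd (Nat.pos_of_ne_zero fun h => ?_) hab).trans (lcm_bound a ha b hb)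
  have := lcm_facts a ha b hb
  rw [h, zero_dvd_iff] at this
  norm_num at this

theorem prime_mem (S : Shape G) {g : G} {p : ℕ} (hp : p.Prime) (h : p ∣ orderOf g) :
    p ∈ ([2, 3, 5, 7, 11, 19] : List ℕ) := by
  obtain ⟨a, ha, b, hb, hab⟩ := S.shape g
  exact prime_of_dvd hp (h.trans (hab.trans (lcm_facts a ha b hb)))

theorem cls (S : Shape G) [Finite G] {p : ℕ} (hp : p.Prime) (h : p ∣ Nat.card G) :
    p ∈ ([2, 3, 5, 7, 11, 19] : List ℕ) := by
  haveI := Fact.mk hp
  obtain ⟨g, hg⟩ := exists_prime_orderOf_dvd_card' (G := G) p h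
  exact S.prime_mem hp (g := g) hg.symm.dvd

theorem not_sq (S : Shape G) (g : G) {p : ℕ} (hp : p.Prime) : ¬ p * p ∣ orderOf g := fun h =>
  S.not_dvd g (no_square p (S.prime_mem hp ((dvd_mul_left p p).trans h))) h

/-- Elements of prime power order have prime order. -/
theorem pow_prime (S : Shape G) {g : G} {p n : ℕ} (hp : p.Prime) (h : g ^ p ^ n = 1) : g ^ p = 1 := by
  obtain ⟨k, -, hk⟩ := (Nat.dvd_prime_pow hp).1 (orderOf_dvd_of_pow_eq_one h)
  match k, hk with
  | 0, hk => rw [pow_zero] at hk; rw [orderOf_eq_one_iff.1 hk, one_pow]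
  | 1, hk => rw [← pow_one p, ← hk, pow_orderOf_eq_one]
  | k + 2, hk => exact absurd (hk ▸ ⟨p ^ k, by ring⟩) (S.not_sq g hp)

theorem pgroup_exp (S : Shape G) {p : ℕ} (hp : p.Prime) {P : Subgroup G} (hP : IsPGroup p P) {x : G}
    (hx : x ∈ P) : x ^ p = 1 := by
  obtain ⟨n, hn⟩ := hP ⟨x, hx⟩
  exact S.pow_prime hp (n := n) (congrArg Subtype.val hn)

theorem pgroup_orderOf (S : Shape G) {p : ℕ} (hp : p.Prime) {P : Subgroup G} (hP : IsPGroup p P) {x : G}
    (hx : x ∈ P) (h1 : x ≠ 1) : orderOf x = p :=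
  haveI := Fact.mk hp
  orderOf_eq_prime (S.pgroup_exp hp hP hx) h1

/-- Two-subgroups are elementary abelian. -/
theorem two_comm (S : Shape G) {P : Subgroup G} (hP : IsPGroup 2 P) {x y : G} (hx : x ∈ P) (hy : y ∈ P) :
    Commute x y := by
  have hi : ∀ {z : G}, z ∈ P → z⁻¹ = z := fun {z} hz =>
    inv_eq_of_mul_eq_one_left (by rw [← pow_two]; exact S.pgroup_exp Nat.prime_two hP hz)
  show x * y = y * x
  rw [← hi (P.mul_mem hx hy), mul_inv_rev, hi hx, hi hy]

theorem abTwo (S : Shape G) : Cfsg.Lib.Walter.AbTwo G := fun P _ hx _ hy => S.two_comm P.2 hx hy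

/-- Commuting elements of coprime orders with a forbidden product. -/
theorem bad2 (S : Shape G) {x y : G} {a b : ℕ} (hx : orderOf x = a) (hy : orderOf y = b) (h : Commute x y)
    (hab : a.Coprime b) (hbad : okN (a * b) = false) : False :=
  S.not_dvd (x * y) hbad (by rw [h.orderOf_mul_eq_mul_orderOf_of_coprime (by rwa [hx, hy]), hx, hy])

theorem bad3 (S : Shape G) {x y z : G} {a b c : ℕ} (hx : orderOf x = a) (hy : orderOf y = b) (hz : orderOf z = c)
    (hxy : Commute x y) (hxz : Commute x z) (hyz : Commute y z) (hab : a.Coprime b) (habc : (a * b).Coprime c)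
    (hbad : okN (a * b * c) = false) : False :=
  S.bad2 (x := x * y) (y := z) (by rw [hxy.orderOf_mul_eq_mul_orderOf_of_coprime (by rwa [hx, hy]), hx, hy]) hz
    (hxz.mul_left hyz) habc hbad

end Shape

/-- The orders used from the square. -/
def HasOrd (G : Type u) [Group G] : Prop :=
  ∀ a ∈ ([6, 10, 7, 11, 19] : List ℕ), ∀ b ∈ ([6, 10, 7, 11, 19] : List ℕ), ∃ g : G, orderOf g = Nat.lcm a b

theorem shape_janko : Shape Cfsg.Lib.Janko.J := ⟨fun g => by
  obtain ⟨a, ha, h⟩ := janko_orders _ (Cfsg.Lib.Janko.orderOf_mem g)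
  exact ⟨a, ha, a, ha, h.trans (by rw [Nat.lcm_self])⟩⟩

/-- A prime prime to the kernel survives in the image. -/
theorem dvd_orderOf_map {G : Type u} [Group G] [Finite G] {H : Type v} [Group H] (π : G →* H) {p : ℕ} (hp : p.Prime)
    (hk : ¬ p ∣ Nat.card π.ker) {g : G} (hg : p ∣ orderOf g) : p ∣ orderOf (π g) := by
  by_contra h
  haveI := Fact.mk hp
  have hx : orderOf (g ^ (orderOf g / p)) = p := orderOf_pow_orderOf_div (orderOf_pos g).ne' hg
  refine hk (hx ▸ Subgroup.orderOf_dvd_natCard π.ker ?_)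
  rw [MonoidHom.mem_ker, map_pow, ← orderOf_dvd_iff_pow_eq_one]
  refine (Nat.Coprime.dvd_of_dvd_mul_left ((hp.coprime_iff_not_dvd.2 h).symm) ?_)
  rw [Nat.mul_div_cancel' hg]
  exact orderOf_map_dvd π g

end Cfsg.Lib.JankoSquare
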