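import Mathlib
import Cfsg.Agent.Janko.Automorphisms
import Cfsg.Agent.JankoSquare.Spec

/-!
Frobenius subgroups and element orders of the first Janko group.
-/

set_option autoImplicit false

namespace Cfsg.Lib.JankoSquare

open Subgroup Cfsg.Lib.Janko

universe u

/-- `U` is normalised by `x`, of prime order, without fixed points. -/
structure Frob {L : Type u} [Group L] (U : Subgroup L) (x : L) (r : ℕ) : Prop where
  conj : ∀ u ∈ U, x * u * x⁻¹ ∈ U
  prime : r.Prime
  ord : orderOf x = r
  fix : ∀ u ∈ U, Commute x u → u = 1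
  ne : ∃ u ∈ U, u ≠ 1

namespace Frob

variable {L : Type u} [Group L] {U : Subgroup L} {x : L} {r : ℕ}

theorem coset (F : Frob U x r) [Finite U] {u : L} (hu : u ∈ U) : ∃ a ∈ U, a * x * a⁻¹ = u * x := by
  let f : U → U := fun a => ⟨a * (x * (a : L)⁻¹ * x⁻¹), U.mul_mem a.2 (F.conj _ (U.inv_mem a.2))⟩
  have hf : Function.Injective f := fun a b e => by
    have e' : (a : L) * x * (a : L)⁻¹ = b * x * (b : L)⁻¹ := by
      have := congrArg Subtype.val e
      simp only [f] at this
      rw [← mul_assoc, ← mul_assoc, ← mul_assoc, ← mul_assoc] at this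
      exact mul_right_cancel this
    have h1 : Commute x ((b : L)⁻¹ * a) := by
      show x * ((b : L)⁻¹ * a) = (b : L)⁻¹ * a * x
      calc x * ((b : L)⁻¹ * a) = (b : L)⁻¹ * (b * x * (b : L)⁻¹) * a := by group
        _ = (b : L)⁻¹ * a * x := by rw [← e']; group
    exact Subtype.ext (inv_mul_eq_one.1 (F.fix _ (U.mul_mem (U.inv_mem b.2) a.2) h1)).symm
  obtain ⟨a, ha⟩ := Finite.injective_iff_surjective.1 hf ⟨u, hu⟩
  refine ⟨a, a.2, ?_⟩
  have := congrArg Subtype.val ha
  simp only [f] at this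
  rw [← this]
  group

theorem coset_order (F : Frob U x r) [Finite U] {u : L} (hu : u ∈ U) : orderOf (u * x) = r := by
  obtain ⟨a, -, e⟩ := F.coset hu
  rw [← e, show a * x * a⁻¹ = MulAut.conj a x from rfl, MulEquiv.orderOf_eq, F.ord]

theorem injective (F : Frob U x r) [Finite U] {i : ℕ} (hi : 0 < i) (hir : i < r) {u u' : L} (hu : u ∈ U)
    (hu' : u' ∈ U) (e : (u * x) ^ i = (u' * x) ^ i) : u = u' := by
  have hc : i.Coprime r :=
    (Nat.Coprime.symm (F.prime.coprime_iff_not_dvd.2 fun h => by have := Nat.le_of_dvd hi h; omega))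
  obtain ⟨j, -, hj⟩ := Nat.exists_mul_mod_eq_one_of_coprime hc F.prime.one_lt
  have key : ∀ {w : L}, w ∈ U → ((w * x) ^ i) ^ j = w * x := fun {w} hw => by
    rw [← pow_mul, ← pow_mod_orderOf, F.coset_order hw, hj, pow_one]
  refine mul_right_cancel (b := x) ?_
  rw [← key hu, e, key hu']

end Frob

theorem janko_simple : IsSimpleGroup J := isJ1.1

theorem center_free {z : J} (h : ∀ s, z * s = s * z) : z = 1 := by
  have : z ∈ center J := mem_center_iff.2 fun s => (h s).symm
  rwa [Cfsg.Lib.Janko.center_J, mem_bot] at this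

theorem janko_noncomm : ∃ a b : J, a * b ≠ b * a := by
  by_contra h
  push Not at h
  have := center_free (z := genX) fun s => h genX s
  have h7 := genX_order
  rw [this, orderOf_one] at h7
  norm_num at h7

theorem janko_not_solvable : ¬ Group.IsSolvable J := fun h => by
  haveI := janko_simple
  obtain ⟨a, b, hab⟩ := janko_noncomm
  exact hab (IsSimpleGroup.comm_iff_isSolvable.2 h a b)

theorem no_order {g : J} {n : ℕ} (hn : n ∉ ([1, 2, 3, 5, 6, 7, 10, 11, 15, 19] : List ℕ)) :
    orderOf g ≠ n := fun e => hn (e ▸ orderOf_mem g)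

theorem commute_false {a b : J} {p q : ℕ} (ha : orderOf a = p) (hb : orderOf b = q) (h : Commute a b)
    (hpq : p.Coprime q) (hn : p * q ∉ ([1, 2, 3, 5, 6, 7, 10, 11, 15, 19] : List ℕ)) : False :=
  no_order hn (g := a * b) (by rw [h.orderOf_mul_eq_mul_orderOf_of_coprime (by rwa [ha, hb]), ha, hb])

theorem exists_ten : ∃ g : J, orderOf g = 10 := by
  obtain ⟨a, ha, ha'⟩ : ∃ a : alternatingGroup (Fin 5), a ^ 5 = 1 ∧ a ≠ 1 :=
    ⟨altB, alt_third_rel.1, alt_third_rel.2.1⟩
  have h2 : orderOf (centMap (Multiplicative.ofAdd (1 : ZMod 2), 1)) = 2 := by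
    rw [centMap_central]; exact tJ_order
  have h5 : orderOf (centMap (1, a)) = 5 := by
    haveI : Fact (Nat.Prime 5) := ⟨by norm_num⟩
    rw [orderOf_injective _ centMap_injective]
    refine orderOf_eq_prime ?_ fun e => ha' (congrArg Prod.snd e)
    rw [Prod.pow_mk, one_pow, ha]; rfl
  refine ⟨centMap (Multiplicative.ofAdd (1 : ZMod 2), 1) * centMap (1, a), ?_⟩
  rw [Commute.orderOf_mul_eq_mul_orderOf_of_coprime ?_ (by rw [h2, h5]; norm_num), h2, h5]
  exact (show Commute ((Multiplicative.ofAdd (1 : ZMod 2), 1) : CentModel) (1, a) from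
    Prod.ext (by simp) (by simp)).map centMap

theorem exists_six : ∃ g : J, orderOf g = 6 := by
  obtain ⟨a, ha, ha'⟩ : ∃ a : alternatingGroup (Fin 5), a ^ 3 = 1 ∧ a ≠ 1 :=
    ⟨⟨Equiv.swap 0 1 * Equiv.swap 1 2, Equiv.Perm.mem_alternatingGroup.mpr (by decide +kernel)⟩, by decide +kernel,
      by decide +kernel⟩
  have h2 : orderOf (centMap (Multiplicative.ofAdd (1 : ZMod 2), 1)) = 2 := by
    rw [centMap_central]; exact tJ_order
  have h3 : orderOf (centMap (1, a)) = 3 := by
    haveI : Fact (Nat.Prime 3) := ⟨Nat.prime_three⟩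
    rw [orderOf_injective _ centMap_injective]
    refine orderOf_eq_prime ?_ fun e => ha' (congrArg Prod.snd e)
    rw [Prod.pow_mk, one_pow, ha]; rfl
  refine ⟨centMap (Multiplicative.ofAdd (1 : ZMod 2), 1) * centMap (1, a), ?_⟩
  rw [Commute.orderOf_mul_eq_mul_orderOf_of_coprime ?_ (by rw [h2, h3]; norm_num), h2, h3]
  exact (show Commute ((Multiplicative.ofAdd (1 : ZMod 2), 1) : CentModel) (1, a) from
    Prod.ext (by simp) (by simp)).map centMap

theorem exists_orders : ∀ a ∈ ([6, 10, 7, 11, 19] : List ℕ), ∃ g : J, orderOf g = a := by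
  intro a ha
  simp only [List.mem_cons, List.not_mem_nil, or_false] at ha
  rcases ha with rfl | rfl | rfl | rfl | rfl
  · exact exists_six
  · exact exists_ten
  · exact ⟨genX, genX_order⟩
  · exact ⟨elevenElt, eleven_order⟩
  · exact ⟨xJ, xJ_order⟩

/-- The order of the normaliser of a self-centralising Sylow subgroup of prime order. -/
theorem card_normalizer {K : Type u} [Group K] [Finite K] {p k m : ℕ} [Fact p.Prime] {a : K} {S : Sylow p K}
    (hS : (S : Subgroup K) = zpowers a) (hP : Nat.card (zpowers a) = p)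
    (hcent : ∀ y : K, Commute a y → y ∈ zpowers a) (hm : Nat.card K = m)
    (hk : ∀ d, d ∈ (p - 1).divisors → (m / (p * d)) % p = 1 → d = k) :
    Nat.card (normalizer (zpowers a : Set K)) = p * k := by
  have hp : p.Prime := Fact.out
  set P := zpowers a with hPdef
  set N := normalizer (P : Set K) with hN
  obtain ⟨d, hd⟩ : p ∣ Nat.card N := hP ▸ card_dvd_of_le le_normalizer
  have hdp : d ∣ p - 1 := by
    let ψ := P.normalizerMonoidHom
    have hker : Nat.card ψ.ker ∣ p := by
      rw [← hP]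
      refine card_dvd_of_injective ((N.subtype.comp ψ.ker.subtype).codRestrict P fun z => hcent _ ?_)
        fun z w e => Subtype.ext (Subtype.ext (congrArg (fun v : P => (v : K)) e))
      have h1 : ((ψ (z : N)) ⟨a, mem_zpowers a⟩ : K) = a :=
        congrArg Subtype.val (DFunLike.congr_fun (MonoidHom.mem_ker.1 z.2) ⟨a, mem_zpowers a⟩)
      exact (mul_inv_eq_iff_eq_mul.1 h1).symm
    have hrange : Nat.card ψ.range ∣ p - 1 := by
      refine (card_subgroup_dvd_card ψ.range).trans ?_
      rw [IsCyclic.card_mulAut, hP, Nat.totient_prime hp]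
    have h := card_eq_card_quotient_mul_card_subgroup ψ.ker
    rw [Nat.card_congr (QuotientGroup.quotientKerEquivRange ψ).toEquiv, hd] at h
    have h2 : p * d ∣ (p - 1) * p := h ▸ Nat.mul_dvd_mul hrange hker
    rw [mul_comm (p - 1)] at h2
    exact (Nat.mul_dvd_mul_iff_left hp.pos).1 h2
  rw [hd]
  congr 1
  refine hk d (Nat.mem_divisors.2 ⟨hdp, by have := hp.two_le; omega⟩) ?_
  have h1 : Nat.card (Sylow p K) ≡ 1 [MOD p] := card_sylow_modEq_one p K
  rw [Sylow.card_eq_index_normalizer S, show ((S : Set K)) = (P : Set K) from congrArg (fun Z : Subgroup K => (Z : Set K)) hS] at h1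
  have h2 : N.index = m / (p * d) := by
    rw [← hd, ← hm]
    exact (Nat.div_eq_of_eq_mul_right Nat.card_pos N.card_mul_index.symm).symm
  rw [← h2]
  have h3 : N.index % p = 1 % p := h1
  rwa [Nat.one_mod_eq_one.2 hp.one_lt.ne'] at h3

/-- A Sylow subgroup of prime order with a complement of the index found by counting. -/
theorem exists_cyclic_piece {p k : ℕ} (hp : p.Prime) {a : J} (ha : orderOf a = p) (hdvd : p ∣ 175560)
    (hsq : ¬ p * p ∣ 175560)
    (halone : ∀ q ∈ ([1, 2, 3, 5, 6, 7, 10, 11, 15, 19] : List ℕ), p ∣ q → q = p)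
    (hmem : ∀ q ∈ ([2, 3, 5, 7, 11, 19] : List ℕ), p * q ∉ ([1, 2, 3, 5, 6, 7, 10, 11, 15, 19] : List ℕ))
    (hk : ∀ d, d ∈ (p - 1).divisors → (175560 / (p * d)) % p = 1 → d = k) :
    Nat.card (normalizer (zpowers a : Set J)) = p * k ∧
      ∀ y : J, Commute a y → y ∈ zpowers a := by
  haveI := Fact.mk hp
  haveI := finite_J
  set P := zpowers a with hPdef
  have hP : Nat.card P = p := by rw [hPdef, Nat.card_zpowers, ha]
  have hf := sylow_of_prime (p := p) hdvd (by rwa [pow_two])
  let S : Sylow p J := Sylow.ofCard (p := p) P (by rw [hP, hf, pow_one])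
  have hcent : ∀ y : J, Commute a y → y ∈ P := by
    intro y hy
    set C := centralizer ({a} : Set J)
    have hCp : ∀ z ∈ C, ∀ q : ℕ, q.Prime → q ∣ orderOf z → q = p := by
      intro z hz q hq hqz
      by_contra hne
      haveI := Fact.mk hq
      have hzq := orderOf_pow_orderOf_div (orderOf_pos z).ne' hqz
      have hc : Commute a z := (mem_centralizer_singleton_iff.1 hz).symm
      refine commute_false ha hzq (hc.pow_right _) ((Nat.coprime_primes hp hq).2 (Ne.symm hne)) (hmem q ?_)
      exact (shape_janko.prime_mem hq hqz)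
    have hC : IsPGroup p C := IsPGroup.iff_orderOf.2 fun z => by
      have h1 : ∀ q : ℕ, q.Prime → q ∣ orderOf (z : J) → q = p := hCp z z.2
      obtain ⟨n, hn⟩ : ∃ n, orderOf (z : J) = p ^ n :=
        ⟨_, Nat.eq_prime_pow_of_unique_prime_dvd (orderOf_pos (z : J)).ne' (fun {q} hq hqd => h1 q hq hqd)⟩
      exact ⟨n, by rw [← Subgroup.orderOf_coe]; exact hn⟩
    have hle : P ≤ C := zpowers_le.2 (mem_centralizer_singleton_iff.2 rfl)
    have e : (S : Subgroup J) = C := (S.3 hC hle).symm
    show y ∈ (S : Subgroup J)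
    rw [e]
    exact mem_centralizer_singleton_iff.2 hy.eq.symm
  exact ⟨card_normalizer (S := S) rfl hP hcent card_J hk, hcent⟩

theorem frob_of_cyclic {p k r : ℕ} (hp : p.Prime) (hr : r.Prime) (hpr : r ≠ p) (hrk : r ∣ k) {a : J}
    (ha : orderOf a = p)
    (h : Nat.card (normalizer (zpowers a : Set J)) = p * k ∧ ∀ y : J, Commute a y → y ∈ zpowers a) :
    ∃ x : J, Frob (zpowers a) x r := by
  haveI := Fact.mk hr
  haveI := finite_J
  obtain ⟨⟨x, hx⟩, hxo⟩ := exists_prime_orderOf_dvd_card' (G := normalizer (zpowers a : Set J)) r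
    (h.1 ▸ hrk.mul_left p)
  rw [Subgroup.orderOf_mk] at hxo
  refine ⟨x, fun u hu => (mem_normalizer_iff.1 hx u).1 hu, hr, hxo, fun u hu hc => ?_, a, mem_zpowers a,
    fun e => hp.one_lt.ne (by rw [← ha, e, orderOf_one])⟩
  by_contra hu1
  haveI := Fact.mk hp
  have hgen : a ∈ zpowers u := by
    have e : zpowers u = zpowers a := eq_of_le_of_card_ge (zpowers_le.2 hu) (by
      rw [Nat.card_zpowers, Nat.card_zpowers, ha]
      rcases hp.eq_one_or_self_of_dvd _ (ha ▸ Nat.card_zpowers a ▸ Subgroup.orderOf_dvd_natCard _ hu) with e | e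
      · exact absurd (orderOf_eq_one_iff.1 e) hu1
      · omega)
    rw [e]; exact mem_zpowers a
  obtain ⟨i, rfl⟩ := mem_zpowers_iff.1 hgen
  have := h.2 x (hc.zpow_right i).symm
  have hd : orderOf x ∣ p := ha ▸ Nat.card_zpowers (u ^ i) ▸ Subgroup.orderOf_dvd_natCard _ this
  rw [hxo] at hd
  exact hpr ((Nat.prime_dvd_prime_iff_eq hr hp).1 hd)

/-- The piece `7 : 3`. -/
theorem frob_three : ∃ (U : Subgroup J) (x : J), Nat.card U = 7 ∧ Frob U x 3 := by
  obtain ⟨x, hx⟩ := frob_of_cyclic (k := 6) (r := 3) (by norm_num : Nat.Prime 7) Nat.prime_three (by norm_num)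
    (by norm_num) genX_order
    (exists_cyclic_piece (by norm_num) genX_order (by norm_num) (by norm_num) (by decide) (by decide) (by decide +kernel))
  exact ⟨_, x, by rw [Nat.card_zpowers, genX_order], hx⟩

/-- The piece `11 : 5`. -/
theorem frob_five : ∃ (U : Subgroup J) (x : J), Nat.card U = 11 ∧ Frob U x 5 := by
  obtain ⟨x, hx⟩ := frob_of_cyclic (k := 10) (r := 5) (by norm_num : Nat.Prime 11) (by norm_num) (by norm_num)
    (by norm_num) eleven_order
    (exists_cyclic_piece (by norm_num) eleven_order (by norm_num) (by norm_num) (by decide) (by decide) (by decide +kernel))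
  exact ⟨_, x, by rw [Nat.card_zpowers, eleven_order], hx⟩

/-- The piece `2³ : 7`, with `x` transitive on the involutions. -/
theorem frob_seven : ∃ (U : Subgroup J) (x : J), Nat.card U = 8 ∧ Frob U x 7 := by
  classical
  haveI := finite_J
  haveI : Fact (Nat.Prime 2) := ⟨Nat.prime_two⟩
  haveI : Fact (Nat.Prime 7) := ⟨by norm_num⟩
  obtain ⟨P⟩ := (inferInstance : Nonempty (Sylow 2 J))
  have hP : Nat.card (P : Subgroup J) = 8 := by
    rw [P.card_eq_multiplicity, card_J]
    have h : (175560 : ℕ).factorization 2 = 3 := by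
      refine le_antisymm ?_ ((Nat.Prime.pow_dvd_iff_le_factorization Nat.prime_two (by norm_num)).1 (by norm_num))
      by_contra hlt
      exact absurd ((pow_dvd_pow 2 (not_le.1 hlt)).trans (Nat.ordProj_dvd _ 2)) (by norm_num)
    rw [h]; norm_num
  haveI : IsMulCommutative (P : Subgroup J) :=
    ⟨⟨fun a b => Subtype.ext (shape_janko.two_comm P.2 a.2 b.2)⟩⟩
  set N := normalizer ((P : Subgroup J) : Set J) with hN
  let X := {y : (P : Subgroup J) // y ≠ 1}
  have hX : Nat.card X = 7 := by
    have := Nat.card_eq_fintype_card (α := X)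
    rw [Fintype.card_subtype_compl, Fintype.card_subtype_eq, ← Nat.card_eq_fintype_card, hP] at this
    exact this
  have htrans : ∀ a b : X, ∃ n ∈ N, n * ((a : (P : Subgroup J)) : J) * n⁻¹ = ((b : (P : Subgroup J)) : J) := by
    intro a b
    have h2 : ∀ y : X, IsConj tJ ((y : (P : Subgroup J)) : J) := fun y => by
      obtain ⟨n, hn⟩ := P.2 (y : (P : Subgroup J))
      exact (two_element_facts (m := n) (congrArg Subtype.val hn)).2 fun e => y.2 (Subtype.ext e)
    obtain ⟨g, hg⟩ := isConj_iff.1 ((h2 a).symm.trans (h2 b))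
    obtain ⟨n, hn, he⟩ := P.conj_eq_normalizer_conj_of_mem ((a : (P : Subgroup J)) : J) g⁻¹ (a : (P : Subgroup J)).2
      (by rw [inv_inv, hg]; exact (b : (P : Subgroup J)).2)
    refine ⟨n⁻¹, inv_mem hn, ?_⟩
    rw [inv_inv, ← he, inv_inv, hg]
  letI : MulAction N X :=
    { smul := fun n y => ⟨⟨(n : J) * ((y : (P : Subgroup J)) : J) * (n : J)⁻¹,
          (mem_normalizer_iff.1 n.2 _).1 (y : (P : Subgroup J)).2⟩, fun e => y.2 (Subtype.ext (by
            have := congrArg Subtype.val e
            simpa [conj_eq_one_iff] using this))⟩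
      one_smul := fun y => Subtype.ext (Subtype.ext (by show (1 : J) * _ * (1 : J)⁻¹ = _; simp))
      mul_smul := fun n m y => Subtype.ext (Subtype.ext (by
        show (n : J) * (m : J) * _ * ((n : J) * (m : J))⁻¹ = (n : J) * ((m : J) * _ * (m : J)⁻¹) * (n : J)⁻¹
        group)) }
  haveI : MulAction.IsPretransitive N X := ⟨fun a b => by
    obtain ⟨n, hn, he⟩ := htrans a b
    exact ⟨⟨n, hn⟩, Subtype.ext (Subtype.ext he)⟩⟩
  haveI : Nonempty X := (Nat.card_pos_iff.1 (hX ▸ (by norm_num : 0 < 7))).1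
  have h7 : 7 ∣ Nat.card N := by
    obtain ⟨y⟩ := (inferInstance : Nonempty X)
    have h1 : (MulAction.stabilizer N y).index = Nat.card X := MulAction.index_stabilizer_of_transitive N y
    have h2 := (MulAction.stabilizer N y).index_dvd_card
    rwa [h1, hX] at h2
  obtain ⟨⟨x, hx⟩, hxo⟩ := exists_prime_orderOf_dvd_card' (G := N) 7 h7
  rw [Subgroup.orderOf_mk] at hxo
  obtain ⟨y⟩ := (inferInstance : Nonempty X)
  refine ⟨P, x, hP, fun u hu => (mem_normalizer_iff.1 hx u).1 hu, by norm_num, hxo, fun u hu hc => ?_,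
    _, (y : (P : Subgroup J)).2, fun e => y.2 (Subtype.ext e)⟩
  by_contra hu1
  exact commute_false hxo (shape_janko.pgroup_orderOf Nat.prime_two P.2 hu hu1) hc (by norm_num) (by decide)

end Cfsg.Lib.JankoSquare
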