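import Mathlib
import Cfsg.Agent.SuzSquare.Norm
import Cfsg.Agent.JankoSquare.Facts

/-!
General tools: fixed points, lifts and minimal covers.
-/

set_option autoImplicit false

namespace Cfsg.Lib.JankoSquare

open Subgroup

universe u v

section Group

variable {G : Type u} [Group G]

theorem mem_normalizer_of_conj [Finite G] {W : Subgroup G} {g : G} (h : ∀ w ∈ W, g * w * g⁻¹ ∈ W) :
    g ∈ normalizer (W : Set G) := mem_normalizer_fintype h

theorem conj_mem_of_normalizer {W : Subgroup G} {g : G} (h : g ∈ normalizer (W : Set G)) {w : G} (hw : w ∈ W) :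
    g * w * g⁻¹ ∈ W := (mem_normalizer_iff.1 h w).1 hw

/-- A nontrivial subgroup of prime power order has a nontrivial abelian subgroup normal in its normaliser. -/
theorem exists_centre [Finite G] {p : ℕ} [Fact p.Prime] {W : Subgroup G} (hW : IsPGroup p W) (hne : W ≠ ⊥) :
    ∃ Z : Subgroup G, Z ≤ W ∧ Z ≠ ⊥ ∧ (∀ a ∈ Z, ∀ w ∈ W, Commute a w) ∧
      normalizer (W : Set G) ≤ normalizer (Z : Set G) := by
  haveI : Nontrivial W := (nontrivial_iff_ne_bot W).2 hne
  haveI := hW.center_nontrivial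
  refine ⟨(center W).map W.subtype, map_subtype_le _, ?_, ?_, fun g hg => mem_normalizer_fintype fun z hz => ?_⟩
  · rw [Ne, map_eq_bot_iff_of_injective _ W.subtype_injective]
    exact (nontrivial_iff_ne_bot _).1 inferInstance
  · rintro _ ⟨z, hz, rfl⟩ w hw
    exact (congrArg Subtype.val (mem_center_iff.1 hz ⟨w, hw⟩)).symm
  · obtain ⟨z, hz, rfl⟩ := hz
    refine ⟨⟨g * z * g⁻¹, conj_mem_of_normalizer hg z.2⟩, mem_center_iff.2 fun w => Subtype.ext ?_, rfl⟩
    have hw : g⁻¹ * (w : G) * g ∈ W := by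
      have := conj_mem_of_normalizer (inv_mem hg) w.2
      rwa [inv_inv] at this
    have h1 : (g⁻¹ * (w : G) * g) * (z : G) = (z : G) * (g⁻¹ * (w : G) * g) :=
      congrArg Subtype.val (mem_center_iff.1 hz ⟨_, hw⟩)
    show (w : G) * (g * z * g⁻¹) = g * z * g⁻¹ * (w : G)
    calc (w : G) * (g * z * g⁻¹) = g * ((g⁻¹ * (w : G) * g) * (z : G)) * g⁻¹ := by group
      _ = g * z * g⁻¹ * (w : G) := by rw [h1]; group

/-- A four group fixes a nontrivial element of an abelian subgroup that it normalises. -/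
theorem four_fixed {a b : G} (ha : a * a = 1) (hb : b * b = 1) (hab : Commute a b) {W : Subgroup G}
    (hW : ∀ x ∈ W, ∀ y ∈ W, Commute x y) (hne : W ≠ ⊥) (hWa : a ∈ normalizer (W : Set G))
    (hWb : b ∈ normalizer (W : Set G)) :
    ∃ t, (t = a ∨ t = b ∨ t = a * b) ∧ ∃ w ∈ W, w ≠ 1 ∧ Commute t w := by
  obtain ⟨z, hz, hz1⟩ := W.bot_or_exists_ne_one.resolve_left hne
  have aux : ∀ t : G, t * t = 1 → t ∈ normalizer (W : Set G) → Commute t (z * (t * z * t⁻¹)) := by
    intro t ht hn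
    have hi : t⁻¹ = t := inv_eq_of_mul_eq_one_left ht
    have hc := hW z hz _ (conj_mem_of_normalizer hn hz)
    rw [hi] at hc ⊢
    show t * (z * (t * z * t)) = z * (t * z * t) * t
    rw [show z * (t * z * t) * t = z * (t * z) * (t * t) by group, ht, mul_one]
    calc t * (z * (t * z * t)) = (t * z * t) * z * t := by group
      _ = z * (t * z * t) * t := by rw [hc.eq]
      _ = z * (t * z) * (t * t) := by group
      _ = z * (t * z) := by rw [ht, mul_one]
  by_cases h1 : z * (a * z * a⁻¹) = 1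
  · by_cases h2 : z * (b * z * b⁻¹) = 1
    · refine ⟨a * b, Or.inr (Or.inr rfl), z, hz, hz1, ?_⟩
      have e1 := eq_inv_of_mul_eq_one_right h1
      have e2 := eq_inv_of_mul_eq_one_right h2
      refine mul_inv_eq_iff_eq_mul.1 ?_
      calc a * b * z * (a * b)⁻¹ = a * (b * z * b⁻¹) * a⁻¹ := by group
        _ = (a * z * a⁻¹)⁻¹ := by rw [e2]; group
        _ = z := by rw [e1, inv_inv]
    · exact ⟨b, Or.inr (Or.inl rfl), _, W.mul_mem hz (conj_mem_of_normalizer hWb hz), h2, aux b hb hWb⟩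
  · exact ⟨a, Or.inl rfl, _, W.mul_mem hz (conj_mem_of_normalizer hWa hz), h1, aux a ha hWa⟩

/-- A Frobenius piece fixes a point or its kernel acts trivially. -/
theorem frob_fixed [Finite G] {U : Subgroup G} {x : G} {r : ℕ} (F : Frob U x r) {W : Subgroup G}
    (hW : ∀ a ∈ W, ∀ b ∈ W, Commute a b) (hU : U ≤ normalizer (W : Set G)) (hx : x ∈ normalizer (W : Set G))
    (hcop : (Nat.card W).Coprime (Nat.card U)) :
    (∃ w ∈ W, w ≠ 1 ∧ Commute x w) ∨ ∀ u ∈ U, ∀ v ∈ W, Commute u v := by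
  refine or_iff_not_imp_left.2 fun hno => ?_
  have hnor : ∀ y : G, y ∈ normalizer ((⊥ : Subgroup G) : Set G) := fun y => by
    rw [normalizer_eq_top]; exact mem_top y
  have key := SuzSquare.norm_section W ⊥ U x F.prime.pos bot_le
    (fun a ha b hb => by rw [mem_bot, (hW a ha b hb).eq]; group)
    (fun y hy => ⟨hU hy, hnor y⟩) ⟨hx, hnor x⟩ F.conj (fun i hi hir u hu u' hu' e => F.injective hi hir hu hu' e) hcop
    (fun u hu v hv => by
      by_contra hne
      obtain ⟨a, ha, e⟩ := F.coset hu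
      have hpow : (u * x) ^ r = 1 := by rw [← F.coset_order hu, pow_orderOf_eq_one]
      obtain ⟨w, hw, hw1, hc⟩ := SuzSquare.fixed_of_norm hW hv (mul_mem (hU hu) hx)
        (fun z _ => by rw [hpow]; exact Commute.one_left z) hne
      refine hno ⟨a⁻¹ * w * a, ?_, fun e' => hw1 ?_, ?_⟩
      · simpa using conj_mem_of_normalizer (inv_mem (hU ha)) hw
      · rw [show w = a * (a⁻¹ * w * a) * a⁻¹ by group, e']; group
      · have hc' : Commute (a * x * a⁻¹) w := by rw [e]; exact hc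
        show x * (a⁻¹ * w * a) = a⁻¹ * w * a * x
        calc x * (a⁻¹ * w * a) = a⁻¹ * (a * x * a⁻¹ * w) * a := by group
          _ = a⁻¹ * w * a * x := by rw [hc'.eq]; group)
  intro u hu v hv
  exact mul_inv_eq_iff_eq_mul.1 (mul_inv_eq_one.1 (mem_bot.1 (key u hu v hv)))

/-- The part of a lift of an element of prime order. -/
theorem exists_pow_map {H : Type v} [Group H] [Finite G] (π : G →* H) {r : ℕ} [Fact r.Prime] {g : G}
    (hg : orderOf (π g) = r) :
    ∃ n : ℕ, orderOf (π g) = r ∧ π (g ^ n) = π g ∧ ∃ k, (g ^ n) ^ r ^ k = 1 := by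
  have hr : r.Prime := Fact.out
  obtain ⟨k, m, hm, hkm⟩ := Nat.exists_eq_pow_mul_and_not_dvd (orderOf_pos g).ne' r hr.ne_one
  obtain ⟨j, -, hj⟩ := Nat.exists_mul_mod_eq_one_of_coprime ((hr.coprime_iff_not_dvd.2 hm).symm) hr.one_lt
  refine ⟨m * j, hg, ?_, k, ?_⟩
  · rw [map_pow, ← pow_mod_orderOf, hg, hj, pow_one]
  · rw [← pow_mul, show m * j * r ^ k = r ^ k * m * j by ring, ← hkm, pow_mul, pow_orderOf_eq_one, one_pow]

end Group

section Map

variable {G : Type u} [Group G] [Finite G] {H : Type v} [Group H] {π : G →* H}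

/-- The normaliser of a Sylow subgroup of the kernel covers the image. -/
theorem normalizer_covers (hπ : Function.Surjective π) {p : ℕ} [Fact p.Prime] (S : Sylow p π.ker) (h : H) :
    ∃ g ∈ normalizer (((S : Subgroup π.ker).map π.ker.subtype : Subgroup G) : Set G), π g = h := by
  obtain ⟨g, rfl⟩ := hπ h
  have hg : g ∈ normalizer (((S : Subgroup π.ker).map π.ker.subtype : Subgroup G) : Set G) ⊔ π.ker := by
    rw [Sylow.normalizer_sup_eq_top S]; exact mem_top g
  obtain ⟨n, hn, k, hk, rfl⟩ := mem_sup_of_normal_right.1 hg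
  exact ⟨n, hn, by rw [map_mul, MonoidHom.mem_ker.1 hk, mul_one]⟩

/-- A four group of the image lifts to involutions. -/
theorem lift_four (S : Shape G) {a b : H} (ha : a ∈ π.range) (hb : b ∈ π.range) (haa : a * a = 1) (hbb : b * b = 1)
    (hab : Commute a b) :
    ∃ x y : G, π x = a ∧ π y = b ∧ x * x = 1 ∧ y * y = 1 ∧ Commute x y := by
  haveI : Fact (Nat.Prime 2) := ⟨Nat.prime_two⟩
  set A := Subgroup.closure ({a, b} : Set H) with hA
  have hAc : ∀ c ∈ A, ∀ d ∈ A, Commute c d := fun c hc d hd => by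
    have h1 : A ≤ centralizer ({a, b} : Set H) := (closure_le _).2 (by
      rintro y (rfl | rfl) <;> refine mem_centralizer_iff.2 ?_ <;> rintro z (rfl | rfl)
      · rfl
      · exact hab.eq.symm
      · exact hab.eq
      · rfl)
    have h2 : A ≤ centralizer ({c} : Set H) := (closure_le _).2 fun y hy =>
      mem_centralizer_singleton_iff.2 (mem_centralizer_iff.1 (h1 hc) y hy)
    exact (mem_centralizer_singleton_iff.1 (h2 hd)).symm
  let Q : Subgroup H :=
    { carrier := {c | c * c = 1 ∧ c ∈ A}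
      one_mem' := ⟨one_mul 1, one_mem _⟩
      mul_mem' := fun {c d} hc hd => ⟨by
        rw [(hAc _ hd.2 _ hc.2).mul_mul_mul_comm, hc.1, hd.1, one_mul], mul_mem hc.2 hd.2⟩
      inv_mem' := fun {c} hc => ⟨by rw [← mul_inv_rev, hc.1, inv_one], inv_mem hc.2⟩ }
  have haQ : a ∈ Q := ⟨haa, subset_closure (Or.inl rfl)⟩
  have hbQ : b ∈ Q := ⟨hbb, subset_closure (Or.inr rfl)⟩
  set M := Q.comap π
  obtain ⟨P⟩ := (inferInstance : Nonempty (Sylow 2 M))
  have key : ∀ c ∈ Q, c ∈ π.range → ∃ x ∈ (P : Subgroup M), π (x : G) = c := by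
    intro c hc hcr
    rcases eq_or_ne c 1 with rfl | hc1
    · exact ⟨1, one_mem _, map_one π⟩
    let φ : M →* Q := (π.comp M.subtype).codRestrict Q fun x => x.2
    let I : Subgroup Q := φ.range
    have hI : IsPGroup 2 I := fun z => ⟨1, Subtype.ext (Subtype.ext (by
      show ((z : Q) : H) ^ 2 ^ 1 = 1
      rw [pow_one]
      rw [pow_two]
      exact (z : Q).2.1))⟩
    let φ' := φ.rangeRestrict
    let P' := P.mapSurjective (f := φ') φ.rangeRestrict_surjective
    have htop : (P' : Subgroup I) = ⊤ :=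
      (hI.to_subgroup ⊤).exists_le_sylow.elim fun P'' h => (P'.3 P''.2 (le_top.trans (top_le_iff.1 h).ge)).symm.trans
        (top_le_iff.1 h)
    obtain ⟨g, hg⟩ := hcr
    have hgM : g ∈ M := show π g ∈ Q from hg ▸ hc
    obtain ⟨x, hx, hxe⟩ := (htop.symm ▸ mem_top (φ' ⟨g, hgM⟩) : φ' ⟨g, hgM⟩ ∈ (P' : Subgroup I))
    exact ⟨x, hx, (congrArg (fun z : I => ((z : Q) : H)) hxe).trans hg⟩
  obtain ⟨x, hx, hxe⟩ := key a haQ ha
  obtain ⟨y, hy, hye⟩ := key b hbQ hb
  have hsq : ∀ z ∈ (P : Subgroup M), (z : G) * (z : G) = 1 := fun z hz => by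
    rw [← pow_two]
    exact congrArg Subtype.val ((S.subgroup M).pgroup_exp Nat.prime_two P.2 hz)
  exact ⟨x, y, hxe, hye, hsq x hx, hsq y hy, ((S.subgroup M).two_comm P.2 hx hy).map M.subtype⟩

end Map

/-- A Frobenius piece lifts when the kernel is prime to it. -/
theorem lift_piece {X : Type u} [Group X] [Finite X] (S : Shape X) {Q : Type v} [Group Q] [Finite Q] (f : X →* Q)
    (hf : Function.Surjective f) {V : Subgroup Q} {z : Q} {q n r : ℕ} (hq : q.Prime) (hV : Nat.card V = q ^ n)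
    (F : Frob V z r) (hk : ¬ q ∣ Nat.card f.ker) :
    ∃ (U : Subgroup X) (x : X), Nat.card U = q ^ n ∧ Frob U x r ∧ (∀ u ∈ U, f u = 1 → u = 1) ∧ f x = z := by
  haveI := Fact.mk hq
  haveI := Fact.mk F.prime
  set M := V.comap f with hM
  obtain ⟨P⟩ := (inferInstance : Nonempty (Sylow q M))
  set U := (P : Subgroup M).map M.subtype with hU
  have hUp : IsPGroup q U := P.2.map _
  have hinj : ∀ u ∈ U, f u = 1 → u = 1 := fun u hu e => by
    by_contra hu1
    exact hk ((S.pgroup_orderOf hq hUp hu hu1) ▸ Subgroup.orderOf_dvd_natCard _ (MonoidHom.mem_ker.2 e))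
  let φ : M →* V := (f.comp M.subtype).codRestrict V fun x => x.2
  have hφ : Function.Surjective φ := fun v => by
    obtain ⟨g, hg⟩ := hf v
    exact ⟨⟨g, show f g ∈ V from hg ▸ v.2⟩, Subtype.ext hg⟩
  let P' := P.mapSurjective (f := φ) hφ
  have htop : (P' : Subgroup V) = ⊤ := by
    refine eq_top_of_card_eq _ ?_
    rw [P'.card_eq_multiplicity, hV, Nat.Prime.factorization_pow hq, Finsupp.single_eq_same]
  have hsurj : ∀ v ∈ V, ∃ u ∈ U, f u = v := fun v hv => by
    obtain ⟨x, hx, hxe⟩ := (htop.symm ▸ mem_top (⟨v, hv⟩ : V) : (⟨v, hv⟩ : V) ∈ (P' : Subgroup V))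
    exact ⟨x, ⟨x, hx, rfl⟩, congrArg Subtype.val hxe⟩
  have hcard : Nat.card U = q ^ n := by
    rw [← hV]
    let ψ : U → V := fun u => ⟨f u, by
      obtain ⟨w, -, hwe⟩ := u.2
      rw [← hwe]
      exact w.2⟩
    refine Nat.card_eq_of_bijective ψ ⟨fun a b e => ?_, fun v => ?_⟩
    · refine Subtype.ext (mul_inv_eq_one.1 (hinj _ (U.mul_mem a.2 (U.inv_mem b.2)) ?_))
      rw [map_mul, map_inv, show f a = f b from congrArg Subtype.val e, mul_inv_cancel]
    · obtain ⟨u, hu, e⟩ := hsurj v v.2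
      exact ⟨⟨u, hu⟩, Subtype.ext e⟩
  -- the normaliser of `U` contains a lift of `z`
  set M' := (normalizer (V : Set Q)).comap f with hM'
  have hMn : (M.subgroupOf M').Normal := ⟨fun m hm g => by
    show f (((g : X)) * (m : X) * (g : X)⁻¹) ∈ V
    rw [map_mul, map_mul, map_inv]
    exact conj_mem_of_normalizer g.2 hm⟩
  have hMle : M ≤ M' := comap_mono le_normalizer
  let P₁ : Sylow q (M.subgroupOf M') := P.mapSurjective (f := (subgroupOfEquivOfLe hMle).symm.toMonoidHom)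
    (MulEquiv.surjective _)
  obtain ⟨g, hg⟩ := hf z
  have hgM : g ∈ M' := show f g ∈ normalizer (V : Set Q) from hg ▸ mem_normalizer_fintype (fun v hv => F.conj v hv)
  have hmem : (⟨g, hgM⟩ : M') ∈ normalizer (((P₁ : Subgroup (M.subgroupOf M')).map (M.subgroupOf M').subtype :
      Subgroup M') : Set M') ⊔ M.subgroupOf M' := by
    rw [Sylow.normalizer_sup_eq_top P₁]; exact mem_top _
  obtain ⟨a, ha, m, hm, ham⟩ := mem_sup_of_normal_right.1 hmem
  have hUeq : ∀ u : M', u ∈ ((P₁ : Subgroup (M.subgroupOf M')).map (M.subgroupOf M').subtype : Subgroup M') ↔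
      (u : X) ∈ U := by
    intro u
    constructor
    · rintro ⟨_, ⟨w, hw, rfl⟩, rfl⟩
      exact ⟨w, hw, rfl⟩
    · rintro ⟨w, hw, hwe⟩
      exact ⟨_, ⟨w, hw, rfl⟩, Subtype.ext hwe⟩
  have haN : (a : X) ∈ normalizer (U : Set X) := mem_normalizer_fintype fun u hu => by
    obtain ⟨w, hw, hwe⟩ := hu
    have hu' : (⟨u, hMle (hwe ▸ w.2)⟩ : M') ∈ ((P₁ : Subgroup (M.subgroupOf M')).map (M.subgroupOf M').subtype :
      Subgroup M') := (hUeq _).2 ⟨w, hw, hwe⟩
    exact (hUeq _).1 (conj_mem_of_normalizer ha hu')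
  obtain ⟨u, hu, hue⟩ := hsurj (f (m : X)) hm
  have hau : (a : X) * u ∈ normalizer (U : Set X) := mul_mem haN (le_normalizer hu)
  have hfz : f ((a : X) * u) = z := by
    rw [map_mul, hue, ← map_mul, ← hg]
    exact congrArg f (congrArg Subtype.val ham)
  obtain ⟨j, -, hj, k, hk'⟩ := exists_pow_map f (r := r) (g := (a : X) * u) (by rw [hfz, F.ord])
  rw [hfz] at hj
  have hx1 : ((a : X) * u) ^ j ≠ 1 := fun e => by
    rw [e, map_one] at hj
    exact F.prime.ne_one (by rw [← F.ord, ← hj, orderOf_one])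
  refine ⟨U, ((a : X) * u) ^ j, hcard, ⟨fun w hw => conj_mem_of_normalizer (pow_mem hau j) hw, F.prime,
    orderOf_eq_prime (S.pow_prime F.prime hk') hx1, fun w hw hc => hinj w hw ?_, ?_⟩, hinj, hj⟩
  · obtain ⟨w', -, hwe⟩ := hw
    refine F.fix _ (hwe ▸ w'.2 : f w ∈ V) ?_
    rw [← hj]
    exact hc.map f
  · obtain ⟨v, hv, hv1⟩ := F.ne
    obtain ⟨w, hw, e⟩ := hsurj v hv
    exact ⟨w, hw, fun h => hv1 (by rw [← e, h, map_one])⟩

end Cfsg.Lib.JankoSquare
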