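import Mathlib
import Cfsg.Agent.Janko.Multiplier
import Cfsg.Agent.Schur.Criteria
import Cfsg.Agent.JankoSquare.Tools

/-!
Minimal covers of the first Janko group inside a group with the shape of its square.
-/

set_option autoImplicit false
set_option linter.unusedSectionVars false

namespace Cfsg.Lib.JankoSquare

open Subgroup Cfsg.Lib.Janko
open scoped commutatorElement

universe u v

/-- A minimal cover. -/
structure Min {L : Type u} [Group L] (f : L →* J) : Prop where
  surj : Function.Surjective f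
  min : ∀ M : Subgroup L, Function.Surjective (f.comp M.subtype) → M = ⊤

theorem exists_min {G : Type u} [Group G] [Finite G] (f : G →* J) (hf : Function.Surjective f) :
    ∃ L : Subgroup G, Min (f.comp L.subtype) := by
  obtain ⟨L, hL, hmin⟩ := (Set.toFinite {L : Subgroup G | Function.Surjective (f.comp L.subtype)}).exists_minimal
    ⟨⊤, fun y => by obtain ⟨x, hx⟩ := hf y; exact ⟨⟨x, mem_top x⟩, hx⟩⟩
  refine ⟨L, hL, fun M hM => ?_⟩
  have h1 : Function.Surjective (f.comp (M.map L.subtype).subtype) := fun y => by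
    obtain ⟨x, hx⟩ := hM y
    exact ⟨⟨(x : L), x, x.2, rfl⟩, hx⟩
  exact eq_top_iff.2 fun x _ => by
    obtain ⟨m, hm, e⟩ := hmin h1 (map_subtype_le M) x.2
    rwa [← Subtype.ext (show ((m : L) : G) = x from e)]

/-- The operator of a Frobenius piece which embeds lies outside the kernel. -/
theorem Frob.image_ne {L : Type u} [Group L] {f : L →* J} {U : Subgroup L} {x : L} {r : ℕ} (F : Frob U x r)
    (hinj : ∀ u ∈ U, f u = 1 → u = 1) : f x ≠ 1 := fun h => by
  obtain ⟨u, hu, hu1⟩ := F.ne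
  refine hu1 (F.fix u hu ?_)
  have h1 : x * u * x⁻¹ * u⁻¹ = 1 := hinj _ (U.mul_mem (F.conj u hu) (U.inv_mem hu)) (by
    simp [h])
  exact mul_inv_eq_iff_eq_mul.1 (mul_inv_eq_one.1 h1)

namespace Min

variable {L : Type u} [Group L] {f : L →* J}

theorem quot (h : Min f) {X : Type v} [Group X] {g : L →* X} (hg : Function.Surjective g) {k : X →* J}
    (e : k.comp g = f) : Min k := by
  refine ⟨fun y => ?_, fun M hM => ?_⟩
  · obtain ⟨x, hx⟩ := h.surj y
    exact ⟨g x, by rw [← MonoidHom.comp_apply, e, hx]⟩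
  · have h1 := h.min (M.comap g) fun y => by
      obtain ⟨⟨m, hm⟩, hy⟩ := hM y
      obtain ⟨x, rfl⟩ := hg m
      exact ⟨⟨x, hm⟩, by
        show f x = y
        rw [← e]
        exact hy⟩
    refine eq_top_iff.2 fun m _ => ?_
    obtain ⟨x, rfl⟩ := hg m
    exact (h1.symm ▸ mem_top x : x ∈ M.comap g)

theorem eq_top_of_normal (h : Min f) {N : Subgroup L} [N.Normal] (hne : ¬ N ≤ f.ker) : N = ⊤ := by
  haveI := janko_simple
  have hn : (N.map f).Normal := Subgroup.Normal.map inferInstance f h.surj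
  rcases hn.eq_bot_or_eq_top with e | e
  · exact absurd ((map_eq_bot_iff N).1 e) hne
  refine h.min N fun y => ?_
  obtain ⟨x, hx, rfl⟩ := (e.symm ▸ mem_top y : y ∈ N.map f)
  exact ⟨⟨x, hx⟩, rfl⟩

theorem perfect (h : Min f) : commutator L = ⊤ := by
  refine h.eq_top_of_normal fun hle => ?_
  obtain ⟨a, b, hab⟩ := janko_noncomm
  obtain ⟨x, rfl⟩ := h.surj a
  obtain ⟨y, rfl⟩ := h.surj b
  have h1 : f ⁅x, y⁆ = 1 := MonoidHom.mem_ker.1 (hle (commutator_mem_commutator (mem_top x) (mem_top y)))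
  rw [map_commutatorElement] at h1
  exact hab (commutatorElement_eq_one_iff_commute.1 h1).eq

theorem nilpotent [Finite L] (h : Min f) : Group.IsNilpotent f.ker := by
  haveI := frattini_nilpotent (G := L)
  have hle : f.ker ≤ frattini L := by
    refine le_iInf₂ fun M hM => ?_
    by_contra hne
    refine hM.1 (h.min M fun y => ?_)
    obtain ⟨x, rfl⟩ := h.surj y
    have htop : M ⊔ f.ker = ⊤ := hM.2 _ (lt_of_le_of_ne le_sup_left fun e => hne (e ▸ le_sup_right))
    obtain ⟨m, hm, k, hk, e⟩ := mem_sup_of_normal_right.1 (htop.symm ▸ mem_top x : x ∈ M ⊔ f.ker)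
    exact ⟨⟨m, hm⟩, by rw [← e, map_mul, MonoidHom.mem_ker.1 hk, mul_one]; rfl⟩
  exact Group.nilpotent_of_mulEquiv (subgroupOfEquivOfLe hle)

/-- An element outside the kernel centralises every subgroup of exponent 2, 3, 5 or 7 which it normalises. -/
theorem outside [Finite L] (h : Min f) {G : Type v} [Group G] [Finite G] (S : Shape G) (i : L →* G)
    (hi : Function.Injective i) {r : ℕ} (hr : r ∈ ([2, 3, 5, 7] : List ℕ))
    (hk3 : r = 3 → ¬ 7 ∣ Nat.card f.ker) (hk5 : r = 5 → ¬ 11 ∣ Nat.card f.ker)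
    (hk7 : r = 7 → ¬ 2 ∣ Nat.card f.ker) {W : Subgroup G} (hW : IsPGroup r W)
    (hn : ∀ l, i l ∈ normalizer (W : Set G)) : ∃ x : L, f x ≠ 1 ∧ ∀ w ∈ W, Commute (i x) w := by
  have SL : Shape L := S.of_injective i hi
  simp only [List.mem_cons, List.not_mem_nil, or_false] at hr
  by_cases hr2 : r = 2
  · subst hr2
    obtain ⟨t, ht⟩ := h.surj Cfsg.Lib.Janko.tJ
    haveI : Fact (Nat.Prime 2) := ⟨Nat.prime_two⟩
    obtain ⟨n, -, hn', k, hk⟩ := exists_pow_map f (r := 2) (g := t) (by rw [ht]; exact tJ_order)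
    have hx2 : i (t ^ n) ^ 2 = 1 := by rw [← map_pow, SL.pow_prime Nat.prime_two hk, map_one]
    have hP : IsPGroup 2 (W ⊔ zpowers (i (t ^ n)) : Subgroup G) := by
      refine IsPGroup.to_sup_of_normal_left' hW ?_ (zpowers_le.2 (hn _))
      intro z
      obtain ⟨j, hj⟩ := mem_zpowers_iff.1 z.2
      refine ⟨1, Subtype.ext ?_⟩
      show (z : G) ^ 2 ^ 1 = 1
      rw [← hj, pow_one, ← zpow_natCast, ← zpow_mul, mul_comm, zpow_mul, zpow_natCast, hx2, one_zpow]
    refine ⟨t ^ n, fun e => ?_, fun w hw => S.two_comm hP (mem_sup_right (mem_zpowers _)) (mem_sup_left hw)⟩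
    rw [hn', ht] at e
    have := tJ_order
    rw [e, orderOf_one] at this
    norm_num at this
  obtain ⟨q, n, U₀, x₀, hq, hqr, hU₀, F₀, hk⟩ : ∃ (q n : ℕ) (U₀ : Subgroup J) (x₀ : J), q.Prime ∧ q ≠ r ∧
      Nat.card U₀ = q ^ n ∧ Frob U₀ x₀ r ∧ ¬ q ∣ Nat.card f.ker := by
    rcases hr with rfl | rfl | rfl | rfl
    · exact absurd rfl hr2
    · obtain ⟨U, x, hU, F⟩ := frob_three
      exact ⟨7, 1, U, x, by norm_num, by norm_num, by rw [hU, pow_one], F, hk3 rfl⟩
    · obtain ⟨U, x, hU, F⟩ := frob_five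
      exact ⟨11, 1, U, x, by norm_num, by norm_num, by rw [hU, pow_one], F, hk5 rfl⟩
    · obtain ⟨U, x, hU, F⟩ := frob_seven
      exact ⟨2, 3, U, x, Nat.prime_two, by norm_num, by rw [hU]; norm_num, F, hk7 rfl⟩
  haveI := Fact.mk F₀.prime
  obtain ⟨U, x, hU, F, hinj, -⟩ := lift_piece SL f h.surj hq hU₀ F₀ hk
  obtain ⟨u, hu, hu1⟩ := F.ne
  refine ⟨u, fun e => hu1 (hinj u hu e), fun w hw => ?_⟩
  haveI := hW.isNilpotent
  have hcopU : (Nat.card W).Coprime (Nat.card (U.map i)) := by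
    obtain ⟨a, ha⟩ := IsPGroup.iff_card.1 hW
    rw [card_map_of_injective hi, hU, ha]
    exact Nat.Coprime.pow _ _ ((Nat.coprime_primes F.prime hq).2 (Ne.symm hqr))
  refine SuzSquare.centralizes (U.map i) (i x) F.prime.pos
    (fun u hu => by
      obtain ⟨u, hu, rfl⟩ := hu
      exact ⟨_, F.conj u hu, by rw [map_mul, map_mul, map_inv]⟩)
    (fun j hj hjr a ha b hb e => by
      obtain ⟨a, ha, rfl⟩ := ha
      obtain ⟨b, hb, rfl⟩ := hb
      rw [← map_mul, ← map_mul, ← map_pow, ← map_pow] at e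
      rw [F.injective hj hjr ha hb (hi e)])
    W inferInstance hcopU (fun y hy => by obtain ⟨y, -, rfl⟩ := hy; exact hn y) (hn x) ?_ (i u) ⟨u, hu, rfl⟩ w hw
  rintro _ ⟨a, ha, rfl⟩ v hv
  have hy : i a * i x = i (a * x) := (map_mul _ _ _).symm
  rw [hy]
  have ho : i (a * x) ^ r = 1 := by rw [← map_pow, ← F.coset_order ha, pow_orderOf_eq_one, map_one]
  rw [ho]
  have hP : IsPGroup r (W ⊔ zpowers (i (a * x)) : Subgroup G) := by
    refine IsPGroup.to_sup_of_normal_left' hW ?_ (zpowers_le.2 (hn _))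
    intro z
    obtain ⟨j, hj⟩ := mem_zpowers_iff.1 z.2
    refine ⟨1, Subtype.ext ?_⟩
    show (z : G) ^ r ^ 1 = 1
    rw [← hj, pow_one, ← zpow_natCast, ← zpow_mul, mul_comm, zpow_mul, zpow_natCast, ho, one_zpow]
  exact S.pgroup_exp F.prime hP (mul_mem (mem_sup_left hv) (mem_sup_right (mem_zpowers _)))

/-- The kernel of a minimal cover is a `{11, 19}`-group. -/
theorem ker_primes [Finite L] (h : Min f) (S : Shape L) {r : ℕ} (hr : r ∈ ([2, 3, 5, 7] : List ℕ)) :
    ¬ r ∣ Nat.card f.ker := by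
  intro hd
  have hrp : r.Prime := by
    simp only [List.mem_cons, List.not_mem_nil, or_false] at hr
    rcases hr with rfl | rfl | rfl | rfl <;> norm_num
  haveI := Fact.mk hrp
  haveI := h.nilpotent
  -- a subgroup of index `r`
  obtain ⟨P⟩ := (inferInstance : Nonempty (Sylow r f.ker))
  have hnc : ∀ (M : Subgroup f.ker), IsCoatom M → M.Normal :=
    ((Group.isNilpotent_of_finite_tfae (G := f.ker)).out 0 2).1 h.nilpotent
  have hsn : ∀ (p : ℕ), Fact p.Prime → ∀ Q : Sylow p f.ker, (Q : Subgroup f.ker).Normal :=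
    ((Group.isNilpotent_of_finite_tfae (G := f.ker)).out 0 3).1 h.nilpotent
  haveI : (P : Subgroup f.ker).Normal := hsn r inferInstance P
  obtain ⟨H, hH⟩ := exists_right_complement'_of_coprime (N := (P : Subgroup f.ker)) P.card_coprime_index
  have hHne : H ≠ ⊤ := fun e => by
    have h1 := hH.card_mul
    rw [e, card_top] at h1
    have h2 : r ∣ Nat.card (P : Subgroup f.ker) := P.dvd_card_of_dvd_card hd
    have h3 : 0 < Nat.card f.ker := Nat.card_pos
    have h4 : Nat.card (P : Subgroup f.ker) = 1 := by nlinarith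
    rw [h4] at h2
    exact hrp.ne_one (Nat.dvd_one.1 h2)
  obtain ⟨M, hM, hHM⟩ : ∃ M, IsCoatom M ∧ H ≤ M :=
    ((eq_top_or_exists_le_coatom H).resolve_left hHne)
  haveI := hnc M hM
  have hMr : M.index = r := by
    obtain ⟨n, hn⟩ := IsPGroup.iff_card.1 P.2
    have h1 : M.index ∣ r ^ n := by
      refine (index_dvd_of_le hHM).trans (dvd_of_eq ?_)
      rw [← hn]
      exact Nat.eq_of_mul_eq_mul_left (Nat.card_pos (α := H)) (by rw [H.card_mul_index, mul_comm, hH.card_mul])
    obtain ⟨j, -, hj⟩ := (Nat.dvd_prime_pow hrp).1 h1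
    have hj0 : j ≠ 0 := fun e => hM.1 (index_eq_one.1 (by rw [hj, e, pow_zero]))
    obtain ⟨c, hc⟩ := exists_prime_orderOf_dvd_card' (G := f.ker ⧸ M) r
      (by rw [← index_eq_card, hj]; exact dvd_pow_self r hj0)
    obtain ⟨y, rfl⟩ := QuotientGroup.mk'_surjective M c
    have htop : zpowers (QuotientGroup.mk' M y) = ⊤ := by
      have h2 : M < (zpowers (QuotientGroup.mk' M y)).comap (QuotientGroup.mk' M) := by
        refine lt_of_le_of_ne (fun m hm => ?_) fun e => ?_
        · show QuotientGroup.mk' M m ∈ zpowers _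
          rw [show QuotientGroup.mk' M m = 1 from (QuotientGroup.eq_one_iff m).2 hm]
          exact one_mem _
        · have : y ∈ M := e.symm ▸ (show QuotientGroup.mk' M y ∈ zpowers _ from mem_zpowers _)
          rw [show QuotientGroup.mk' M y = 1 from (QuotientGroup.eq_one_iff y).2 this, orderOf_one] at hc
          exact hrp.ne_one hc.symm
      refine eq_top_iff.2 fun z _ => ?_
      obtain ⟨z, rfl⟩ := QuotientGroup.mk'_surjective M z
      have h3 : z ∈ (zpowers (QuotientGroup.mk' M y)).comap (QuotientGroup.mk' M) := by rw [hM.2 _ h2]; exact mem_top z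
      exact h3
    rw [index_eq_card, ← card_top, ← htop, Nat.card_zpowers, hc]
  -- the elementary quotient
  set M₀ := (M.map f.ker.subtype).normalCore with hM₀
  have hM₀le : M₀ ≤ f.ker := (normalCore_le _).trans (map_subtype_le M)
  let k : L ⧸ M₀ →* J := QuotientGroup.lift M₀ f hM₀le
  have hk : k.comp (QuotientGroup.mk' M₀) = f := MonoidHom.ext fun _ => rfl
  have hX : Min k := h.quot (QuotientGroup.mk'_surjective M₀) hk
  have hker : ∀ z ∈ k.ker, ∃ x ∈ f.ker, QuotientGroup.mk' M₀ x = z := fun z hz => by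
    obtain ⟨x, rfl⟩ := QuotientGroup.mk'_surjective M₀ z
    exact ⟨x, hz, rfl⟩
  have hin : ∀ x ∈ f.ker, (∀ g : L, g * x * g⁻¹ ∈ M.map f.ker.subtype) → QuotientGroup.mk' M₀ x = 1 :=
    fun x _ hx => (QuotientGroup.eq_one_iff x).2 hx
  have hpow : ∀ z ∈ k.ker, z ^ r = 1 := fun z hz => by
    obtain ⟨x, hx, rfl⟩ := hker z hz
    rw [← map_pow]
    refine hin _ (pow_mem hx r) fun g => ?_
    rw [← conj_pow]
    exact ⟨⟨g * x * g⁻¹, (inferInstance : f.ker.Normal).conj_mem x hx g⟩ ^ r, hMr ▸ M.pow_index_mem _, rfl⟩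
  have hcomm : ∀ a ∈ k.ker, ∀ b ∈ k.ker, Commute a b := fun a ha b hb => by
    obtain ⟨x, hx, rfl⟩ := hker a ha
    obtain ⟨y, hy, rfl⟩ := hker b hb
    rw [← commutatorElement_eq_one_iff_commute, ← map_commutatorElement]
    refine hin _ (by rw [commutatorElement_def]; exact mul_mem (mul_mem (mul_mem hx hy) (inv_mem hx)) (inv_mem hy))
      fun g => ?_
    haveI : IsCyclic (f.ker ⧸ M) := isCyclic_of_prime_card (p := r) (by rw [← index_eq_card, hMr])
    letI : CommGroup (f.ker ⧸ M) := IsCyclic.commGroup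
    refine ⟨⁅(⟨g * x * g⁻¹, (inferInstance : f.ker.Normal).conj_mem x hx g⟩ : f.ker),
      (⟨g * y * g⁻¹, (inferInstance : f.ker.Normal).conj_mem y hy g⟩ : f.ker)⁆, ?_, ?_⟩
    · rw [SetLike.mem_coe, ← QuotientGroup.eq_one_iff, ← QuotientGroup.mk'_apply, map_commutatorElement,
        commutatorElement_eq_one_iff_commute]
      exact mul_comm _ _
    · simp only [commutatorElement_def, map_mul, map_inv, Subgroup.coe_subtype]
      group
  have hne : k.ker ≠ ⊥ := fun e => by
    have hle : f.ker ≤ M.map f.ker.subtype := fun x hx => by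
      have h1 : QuotientGroup.mk' M₀ x = 1 :=
        (Subgroup.eq_bot_iff_forall _).1 e _ (show k (QuotientGroup.mk' M₀ x) = 1 from hx)
      exact normalCore_le _ ((QuotientGroup.eq_one_iff x).1 h1)
    refine hM.1 (eq_top_iff.2 fun x _ => ?_)
    obtain ⟨m, hm, e⟩ := hle x.2
    rwa [← Subtype.ext (show (m : L) = x from e)]
  have SX : Shape (L ⧸ M₀) := S.of_surjective _ (QuotientGroup.mk'_surjective M₀)
  have hp : IsPGroup r k.ker := fun z => ⟨1, Subtype.ext (by rw [pow_one]; exact hpow z z.2)⟩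
  have hnot : ∀ q : ℕ, q.Prime → q ≠ r → ¬ q ∣ Nat.card k.ker := fun q hq hne hqd => by
    obtain ⟨n, hn⟩ := IsPGroup.iff_card.1 hp
    rw [hn] at hqd
    exact hne ((Nat.prime_dvd_prime_iff_eq hq hrp).1 (hq.dvd_of_dvd_pow hqd))
  obtain ⟨x, hx, hxc⟩ := hX.outside SX (MonoidHom.id _) (fun _ _ e => e) hr
    (fun e => hnot 7 (by norm_num) (by omega)) (fun e => hnot 11 (by norm_num) (by omega))
    (fun e => hnot 2 Nat.prime_two (by omega)) hp (fun l => by rw [normalizer_eq_top]; exact mem_top _)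
  have hc : centralizer (k.ker : Set (L ⧸ M₀)) = ⊤ := hX.eq_top_of_normal fun hle =>
    hx (MonoidHom.mem_ker.1 (hle (mem_centralizer_iff.2 fun w hw => (hxc w hw).eq.symm)))
  refine hne (Cfsg.Lib.Schur.ker_eq_bot_of_hasCyclicSchurMultiplier_one multiplier_J1 (σ := k)
    ⟨hX.surj, fun z hz => mem_center_iff.2 fun g => ?_, ?_⟩)
  · exact (mem_centralizer_iff.1 (hc.symm ▸ mem_top g : g ∈ centralizer _) z hz).symm
  · rw [hX.perfect]; exact le_top

/-- A minimal cover centralises every subgroup of exponent 2, 3, 5 or 7 which it normalises. -/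
theorem centralises [Finite L] (h : Min f) {G : Type v} [Group G] [Finite G] (S : Shape G) (i : L →* G)
    (hi : Function.Injective i) {r : ℕ} (hr : r ∈ ([2, 3, 7] : List ℕ)) {W : Subgroup G} (hW : IsPGroup r W)
    (hn : ∀ l, i l ∈ normalizer (W : Set G)) : ∀ (l : L), ∀ w ∈ W, Commute (i l) w := by
  have hr' : r ∈ ([2, 3, 5, 7] : List ℕ) := by
    simp only [List.mem_cons, List.not_mem_nil, or_false] at hr ⊢; omega
  obtain ⟨x, hx, hxc⟩ := h.outside S i hi hr' (fun _ => h.ker_primes (S.of_injective i hi) (by simp))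
    (fun e => by subst e; simp at hr) (fun _ => h.ker_primes (S.of_injective i hi) (by simp)) hW hn
  haveI : ((centralizer (W : Set G)).comap i).Normal := ⟨fun a ha g => by
    show i (g * a * g⁻¹) ∈ centralizer (W : Set G)
    rw [map_mul, map_mul, map_inv]
    refine mem_centralizer_iff.2 fun w hw => ?_
    have hw' : (i g)⁻¹ * w * i g ∈ W := by
      simpa using conj_mem_of_normalizer (inv_mem (hn g)) hw
    have h1 := mem_centralizer_iff.1 ha _ hw'
    calc w * (i g * i a * (i g)⁻¹) = i g * ((i g)⁻¹ * w * i g * i a) * (i g)⁻¹ := by group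
      _ = i g * i a * (i g)⁻¹ * w := by rw [h1]; group⟩
  have htop := h.eq_top_of_normal (N := (centralizer (W : Set G)).comap i) fun hle =>
    hx (MonoidHom.mem_ker.1 (hle (show i x ∈ centralizer (W : Set G) from mem_centralizer_iff.2 fun w hw => (hxc w hw).eq.symm)))
  intro l w hw
  exact (mem_centralizer_iff.1 (show l ∈ (centralizer (W : Set G)).comap i by rw [htop]; exact mem_top l) w hw).symm

/-- A chosen element of order seven fixes a point of every subgroup of odd prime power order which the cover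
normalises. -/
theorem seven [Finite L] (h : Min f) {G : Type v} [Group G] [Finite G] (S : Shape G) (i : L →* G)
    (hi : Function.Injective i) :
    ∃ (E : Subgroup L) (x : L), Nat.card E = 8 ∧ Frob E x 7 ∧ (∀ u ∈ E, f u = 1 → u = 1) ∧
      ∀ (p : ℕ), p.Prime → p ≠ 2 → ∀ W : Subgroup G, IsPGroup p W → W ≠ ⊥ →
        (∀ l, i l ∈ normalizer (W : Set G)) → ∃ w ∈ W, w ≠ 1 ∧ Commute (i x) w := by
  obtain ⟨U₀, x₀, hU₀, F₀⟩ := frob_seven
  obtain ⟨E, x, hE, F, hinj, -⟩ := lift_piece (S.of_injective i hi) f h.surj Nat.prime_two (n := 3)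
    (hU₀.trans (by norm_num)) F₀ (h.ker_primes (S.of_injective i hi) (by simp))
  refine ⟨E, x, hE.trans (by norm_num), F, hinj, fun p hp hp2 W hW hne hn => ?_⟩
  haveI := Fact.mk hp
  obtain ⟨Z, hZW, hZne, hZc, hZn⟩ := exists_centre hW hne
  have F' : Frob (E.map i) (i x) 7 := by
    refine ⟨?_, F.prime, by rw [orderOf_injective i hi, F.ord], ?_, ?_⟩
    · rintro _ ⟨u, hu, rfl⟩
      exact ⟨_, F.conj u hu, by rw [map_mul, map_mul, map_inv]⟩
    · rintro _ ⟨u, hu, rfl⟩ hc
      rw [F.fix u hu (hi (by rw [map_mul, map_mul]; exact hc)), map_one]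
    · obtain ⟨u, hu, hu1⟩ := F.ne
      exact ⟨i u, ⟨u, hu, rfl⟩, fun e => hu1 (hi (by rw [e, map_one]))⟩
  have hZp : IsPGroup p Z := hW.to_le hZW
  have hcop : (Nat.card Z).Coprime (Nat.card (E.map i)) := by
    obtain ⟨a, ha⟩ := IsPGroup.iff_card.1 hZp
    rw [card_map_of_injective hi, hE, ha]
    exact Nat.Coprime.pow _ _ ((Nat.coprime_primes hp Nat.prime_two).2 hp2)
  rcases frob_fixed F' (fun a ha b hb => hZc a ha b (hZW hb))
    (fun y hy => by obtain ⟨y, -, rfl⟩ := hy; exact hZn (hn y)) (hZn (hn x)) hcop with ⟨w, hw, h1, hc⟩ | hall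
  · exact ⟨w, hZW hw, h1, hc⟩
  · haveI : ((centralizer (Z : Set G)).comap i).Normal := ⟨fun a ha g => by
      show i (g * a * g⁻¹) ∈ centralizer (Z : Set G)
      rw [map_mul, map_mul, map_inv]
      refine mem_centralizer_iff.2 fun w hw => ?_
      have hw' : (i g)⁻¹ * w * i g ∈ Z := by
        simpa using conj_mem_of_normalizer (inv_mem (hZn (hn g))) hw
      have h1 := mem_centralizer_iff.1 ha _ hw'
      calc w * (i g * i a * (i g)⁻¹) = i g * ((i g)⁻¹ * w * i g * i a) * (i g)⁻¹ := by group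
        _ = i g * i a * (i g)⁻¹ * w := by rw [h1]; group⟩
    obtain ⟨u, hu, hu1⟩ := F.ne
    have htop := h.eq_top_of_normal (N := (centralizer (Z : Set G)).comap i) fun hle =>
      hu1 (hinj u hu (MonoidHom.mem_ker.1 (hle (show i u ∈ centralizer (Z : Set G) from
        mem_centralizer_iff.2 fun w hw => (hall _ ⟨u, hu, rfl⟩ w hw).eq.symm))))
    obtain ⟨z, hz, hz1⟩ := Z.bot_or_exists_ne_one.resolve_left hZne
    exact ⟨z, hZW hz, hz1, (mem_centralizer_iff.1 (show x ∈ (centralizer (Z : Set G)).comap i by rw [htop]; exact mem_top x) z hz).symm⟩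

end Min

end Cfsg.Lib.JankoSquare
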