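import Mathlib
import Cfsg.Agent.Elementary.ThreePrimes
import Cfsg.Agent.RankOne.Inverted
import Cfsg.Agent.Coprime.Hall
import Cfsg.Agent.JankoSquare.Cover

/-!
A solvable group below one Janko group does not give the orders of the square.
-/

set_option autoImplicit false
set_option linter.unusedSectionVars false

namespace Cfsg.Lib.JankoSquare

open Subgroup Cfsg.Lib.Janko Cfsg.Lib.ThreePrimes

universe u

variable {G : Type u} [Group G] [Finite G] {π : G →* J}

/-- A cover normalising a Sylow subgroup of the kernel inside a subgroup that covers. -/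
theorem cover_normalises (K : Subgroup G) (hK : Function.Surjective (π.comp K.subtype)) {p : ℕ} [Fact p.Prime]
    (hp : p ∣ Nat.card ↥(π.ker ⊓ K : Subgroup G)) :
    ∃ (L : Type u) (_ : Group L) (_ : Finite L) (f : L →* J) (i : L →* G) (W : Subgroup G),
      Min f ∧ Function.Injective i ∧ (∀ l, π (i l) = f l) ∧ (∀ l, i l ∈ K) ∧ W ≤ π.ker ⊓ K ∧ IsPGroup p W ∧
        W ≠ ⊥ ∧ (∀ l, i l ∈ normalizer (W : Set G)) := by
  set π' := π.comp K.subtype with hπ'
  have hker : π'.ker.map K.subtype = π.ker ⊓ K := by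
    ext g
    constructor
    · rintro ⟨x, hx, rfl⟩
      exact ⟨hx, x.2⟩
    · rintro ⟨hg, hgK⟩
      exact ⟨⟨g, hgK⟩, hg, rfl⟩
  obtain ⟨P⟩ := (inferInstance : Nonempty (Sylow p π'.ker))
  set W' := (P : Subgroup π'.ker).map π'.ker.subtype with hW'
  let N := normalizer (W' : Set K)
  obtain ⟨L, hL⟩ := exists_min (π'.comp N.subtype) fun y => by
    obtain ⟨g, hg, e⟩ := normalizer_covers hK P y
    exact ⟨⟨g, hg⟩, e⟩
  refine ⟨L, inferInstance, inferInstance, _, K.subtype.comp (N.subtype.comp L.subtype), W'.map K.subtype, hL,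
    K.subtype_injective.comp (N.subtype_injective.comp L.subtype_injective), fun l => rfl, fun l => ((l : N) : K).2,
    ?_, (P.2.map _).map _, ?_, fun l => mem_normalizer_fintype fun w hw => ?_⟩
  · exact hker ▸ map_mono (map_subtype_le _)
  · rw [Ne, map_eq_bot_iff_of_injective _ K.subtype_injective, map_eq_bot_iff_of_injective _ π'.ker.subtype_injective]
    intro e
    have h1 : p ∣ Nat.card π'.ker := by
      rw [← card_map_of_injective (K := π'.ker) K.subtype_injective, hker]; exact hp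
    have h2 := P.dvd_card_of_dvd_card h1
    rw [e, card_bot] at h2
    exact (Fact.out : p.Prime).ne_one (Nat.dvd_one.1 h2)
  · obtain ⟨v, hv, rfl⟩ := hw
    exact ⟨_, conj_mem_of_normalizer (W := W') (l : N).2 hv, by simp⟩

theorem janko_image {g : G} {q : ℕ} (hq : q ∈ ([7, 11, 19] : List ℕ)) (h : q ∣ orderOf (π g)) :
    orderOf (π g) = q := by
  have key : ∀ n ∈ ([1, 2, 3, 5, 6, 7, 10, 11, 15, 19] : List ℕ), ∀ q ∈ ([7, 11, 19] : List ℕ), q ∣ n → n = q := by
    decide
  exact key _ (orderOf_mem _) q hq h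

/-- The centralizer of an element of order 3 or 7 of the kernel covers. -/
theorem cent_covers (S : Shape G) (hπ : Function.Surjective π) {a : G} (ha : a ∈ π.ker) {r : ℕ}
    (hr : r = 3 ∨ r = 7) (hao : orderOf a = r) :
    Function.Surjective (π.comp (centralizer ({a} : Set G)).subtype) := by
  haveI : Fact r.Prime := ⟨by rcases hr with rfl | rfl <;> norm_num⟩
  have h1 : IsPGroup r (zpowers (⟨a, ha⟩ : π.ker)) := IsPGroup.of_card (n := 1) (by
    rw [Nat.card_zpowers, Subgroup.orderOf_mk, hao, pow_one])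
  obtain ⟨P, hP⟩ := h1.exists_le_sylow
  set W := (P : Subgroup π.ker).map π.ker.subtype with hW
  obtain ⟨L, hL⟩ := exists_min (π.comp (normalizer (W : Set G)).subtype) fun y => by
    obtain ⟨g, hg, e⟩ := normalizer_covers hπ P y
    exact ⟨⟨g, hg⟩, e⟩
  have key := hL.centralises S ((normalizer (W : Set G)).subtype.comp L.subtype)
    ((normalizer (W : Set G)).subtype_injective.comp L.subtype_injective)
    (by rcases hr with rfl | rfl <;> simp : r ∈ ([2, 3, 7] : List ℕ)) (P.2.map _) fun l => (l : normalizer (W : Set G)).2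
  intro y
  obtain ⟨l, rfl⟩ := hL.surj y
  exact ⟨⟨_, mem_centralizer_singleton_iff.2 (key l a ⟨_, hP (mem_zpowers _), rfl⟩).eq⟩, rfl⟩

/-- No element of the kernel of order 3 or 7 commutes with one of order 7, 11 or 19. -/
theorem no_edge_small (S : Shape G) (hπ : Function.Surjective π) {a b : G} (ha : a ∈ π.ker) (hb : b ∈ π.ker)
    {r y : ℕ} (hry : (r = 3 ∧ (y = 7 ∨ y = 11 ∨ y = 19)) ∨ (r = 7 ∧ (y = 11 ∨ y = 19))) (hao : orderOf a = r)
    (hbo : orderOf b = y) (hc : Commute a b) : False := by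
  have hy : y.Prime := by rcases hry with ⟨-, rfl | rfl | rfl⟩ | ⟨-, rfl | rfl⟩ <;> norm_num
  haveI := Fact.mk hy
  set K := centralizer ({a} : Set G)
  obtain ⟨L, iL, iF, f, i, W, hL, hi, hif, hiK, hWle, hWp, hWne, hWn⟩ :=
    cover_normalises K (cent_covers S hπ ha (by omega) hao) (p := y)
      (hbo ▸ Subgroup.orderOf_dvd_natCard _ ⟨hb, mem_centralizer_singleton_iff.2 hc.eq.symm⟩)
  have hca : ∀ g ∈ K, Commute a g := fun g hg => (mem_centralizer_singleton_iff.1 hg).symm
  have hWK : ∀ w ∈ W, w ∈ K := fun w hw => (hWle hw).2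
  obtain ⟨E, x, hE, F, hinj, hfix⟩ := hL.seven S i hi
  obtain ⟨w, hw, hw1, hxw⟩ := hfix y hy (by omega) W hWp hWne hWn
  have how := S.pgroup_orderOf hy hWp hw hw1
  have hox : orderOf (i x) = 7 := by rw [orderOf_injective i hi, F.ord]
  rcases hry with ⟨rfl, rfl | hy'⟩ | ⟨rfl, hy'⟩
  · -- an element of order eleven centralises the Sylow subgroup
    obtain ⟨l, hl⟩ := hL.surj elevenElt
    have hd : 11 ∣ orderOf l := by
      rw [← eleven_order, ← hl]; exact orderOf_map_dvd f l
    set l' := l ^ (orderOf l / 11) with hl'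
    have hol : orderOf (i l') = 11 := by
      rw [orderOf_injective i hi, hl', orderOf_pow_orderOf_div (orderOf_pos l).ne' hd]
    exact S.bad3 hao how hol (hca _ (hWK w hw)) (hca _ (hiK _))
      (hL.centralises S i hi (by simp) hWp hWn l' w hw).symm (by norm_num) (by norm_num) (by decide +kernel)
  · refine S.bad3 hao hox how (hca _ (hiK _)) (hca _ (hWK w hw)) hxw (by norm_num) ?_ ?_
    · rcases hy' with rfl | rfl <;> norm_num
    · rcases hy' with rfl | rfl <;> decide +kernel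
  · obtain ⟨u, hu, hu1⟩ := F.ne
    obtain ⟨v, hv, hv1, hvu⟩ : ∃ v ∈ E, v ≠ 1 ∧ v ≠ u := ⟨x * u * x⁻¹, F.conj u hu, fun e => hu1 (by
      simpa [conj_eq_one_iff] using e), fun e => hu1 (F.fix u hu (mul_inv_eq_iff_eq_mul.1 e))⟩
    have hEp : IsPGroup 2 (E.map i) := (IsPGroup.of_card (n := 3) (hE.trans (by norm_num))).map i
    obtain ⟨Z, hZW, hZne, hZc, hZn⟩ := exists_centre hWp hWne
    have sq : ∀ e ∈ E.map i, e * e = 1 := fun e he => by rw [← pow_two]; exact S.pgroup_exp Nat.prime_two hEp he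
    obtain ⟨t, ht, z, hz, hz1, htz⟩ := four_fixed (sq _ ⟨u, hu, rfl⟩) (sq _ ⟨v, hv, rfl⟩)
      (S.two_comm hEp ⟨u, hu, rfl⟩ ⟨v, hv, rfl⟩) (fun a ha b hb => hZc a ha b (hZW hb)) hZne (hZn (hWn u)) (hZn (hWn v))
    obtain ⟨t', ht', ht1, rfl⟩ : ∃ t' ∈ E, t' ≠ 1 ∧ i t' = t := by
      rcases ht with rfl | rfl | rfl
      · exact ⟨u, hu, hu1, rfl⟩
      · exact ⟨v, hv, hv1, rfl⟩
      · refine ⟨u * v, E.mul_mem hu hv, fun e => hvu ?_, map_mul _ _ _⟩
        have h2 : i u * i u = 1 := sq _ ⟨u, hu, rfl⟩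
        rw [← map_mul] at h2
        exact hi (congrArg i ((eq_inv_of_mul_eq_one_right e).trans (inv_eq_of_mul_eq_one_left
          (hi (h2.trans (map_one i).symm)))))
    have hot : orderOf (i t') = 2 := S.pgroup_orderOf Nat.prime_two hEp ⟨t', ht', rfl⟩
      fun e => ht1 (hi (e.trans (map_one i).symm))
    refine S.bad3 hot hao (S.pgroup_orderOf hy hWp (hZW hz) hz1) (hca _ (hiK _)).symm htz
      (hca _ (hWK z (hZW hz))) (by norm_num) ?_ ?_
    · rcases hy' with rfl | rfl <;> norm_num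
    · rcases hy' with rfl | rfl <;> decide +kernel

/-- The prime set `{11, 19}`. -/
def bigTwo : List ℕ := [11, 19]

theorem bigTwo_prime {p : ℕ} (hp : p ∈ bigTwo) : p.Prime ∧ p ≠ 2 ∧ (p = 11 ∨ p = 19) := by
  simp only [bigTwo, List.mem_cons, List.not_mem_nil, or_false] at hp
  rcases hp with rfl | rfl <;> norm_num

/-- A group of prime order centralised in the kernel. -/
theorem no_cent_of_order (S : Shape G) (K : Subgroup G) (hK : Function.Surjective (π.comp K.subtype))
    {c : G} {p q : ℕ} (hp : p ∈ bigTwo) (hq : q ∈ bigTwo) (hpq : p ≠ q) (hco : orderOf c = q)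
    (hKc : K ≤ normalizer (zpowers c : Set G)) {b : G} (hb : b ∈ π.ker) (hbK : b ∈ K) (hbo : orderOf b = p)
    (hbc : Commute b c) : False := by
  obtain ⟨hpp, hp2, hp'⟩ := bigTwo_prime hp
  obtain ⟨hqq, hq2, hq'⟩ := bigTwo_prime hq
  haveI := Fact.mk hpp
  haveI := Fact.mk hqq
  let ρ := (zpowers c).normalizerMonoidHom.comp (inclusion hKc)
  set C := ρ.ker.map K.subtype with hC
  have hCc : ∀ g ∈ C, Commute g c := by
    rintro _ ⟨g, hg, rfl⟩
    have h1 := congrArg Subtype.val (DFunLike.congr_fun (MonoidHom.mem_ker.1 hg) ⟨c, mem_zpowers c⟩)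
    change (g : G) * c * (g : G)⁻¹ = c at h1
    exact mul_inv_eq_iff_eq_mul.1 h1
  have hbC : b ∈ C := ⟨⟨b, hbK⟩, MonoidHom.mem_ker.2 (MulEquiv.ext fun z => Subtype.ext (by
    obtain ⟨j, hj⟩ := mem_zpowers_iff.1 z.2
    show b * (z : G) * b⁻¹ = (z : G)
    rw [← hj, (hbc.zpow_right j).eq, mul_inv_cancel_right])), rfl⟩
  have hsurjC : Function.Surjective (π.comp C.subtype) := by
    obtain ⟨L, hL⟩ := exists_min _ hK
    obtain ⟨E, x, -, F, hinj, hfix⟩ := hL.seven S (K.subtype.comp L.subtype) (K.subtype_injective.comp L.subtype_injective)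
    have hxk := F.image_ne hinj
    obtain ⟨w, hw, hw1, hxw⟩ := hfix q hqq hq2 (zpowers c)
      (IsPGroup.of_card (n := 1) (by rw [Nat.card_zpowers, hco, pow_one]))
      (fun e => by rw [zpowers_eq_bot] at e; rw [e, orderOf_one] at hco; exact hqq.ne_one hco.symm)
      (fun l => hKc (l : K).2)
    have hxc : Commute (((x : L) : K) : G) c := by
      have h1 : zpowers w = zpowers c := eq_of_le_of_card_ge (zpowers_le.2 hw) (by
        rw [Nat.card_zpowers, Nat.card_zpowers, hco]
        rcases hqq.eq_one_or_self_of_dvd _ (hco ▸ Nat.card_zpowers c ▸ Subgroup.orderOf_dvd_natCard _ hw) with e | e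
        · exact absurd (orderOf_eq_one_iff.1 e) hw1
        · omega)
      obtain ⟨j, hj⟩ := mem_zpowers_iff.1 (h1 ▸ mem_zpowers c : c ∈ zpowers w)
      rw [← hj]
      exact hxw.zpow_right j
    have hfx : (π.comp K.subtype).comp L.subtype x ≠ 1 := hxk
    have htop := hL.eq_top_of_normal (N := (ρ.comp L.subtype).ker) fun hle =>
      hfx (MonoidHom.mem_ker.1 (hle (MonoidHom.mem_ker.2 (MulEquiv.ext fun z => Subtype.ext (by
          obtain ⟨j, hj⟩ := mem_zpowers_iff.1 z.2
          show (((x : L) : K) : G) * (z : G) * (((x : L) : K) : G)⁻¹ = (z : G)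
          rw [← hj, (hxc.zpow_right j).eq, mul_inv_cancel_right])))))
    intro y
    obtain ⟨l, rfl⟩ := hL.surj y
    exact ⟨⟨_, ⟨(l : K), show l ∈ (ρ.comp L.subtype).ker by rw [htop]; exact mem_top l, rfl⟩⟩, rfl⟩
  obtain ⟨L, iL, iF, f, i, W, hL, hi, hif, hiC, hWle, hWp, hWne, hWn⟩ :=
    cover_normalises C hsurjC (p := p) (hbo ▸ Subgroup.orderOf_dvd_natCard _ ⟨hb, hbC⟩)
  obtain ⟨E, x, -, F, -, hfix⟩ := hL.seven S i hi
  obtain ⟨w, hw, hw1, hxw⟩ := hfix p hpp hp2 W hWp hWne hWn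
  have hox : orderOf (i x) = 7 := by rw [orderOf_injective i hi, F.ord]
  refine S.bad3 hox (S.pgroup_orderOf hpp hWp hw hw1) hco hxw (hCc _ (hiC x)) (hCc _ (hWle hw).2) ?_ ?_ ?_
  all_goals rcases hp' with rfl | rfl <;> rcases hq' with rfl | rfl <;> first
    | exact absurd rfl hpq
    | decide +kernel
    | norm_num

end Cfsg.Lib.JankoSquare
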