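import Mathlib
import Cfsg.Agent.JankoSquare.Cover

/-!
No solvable group below the product of the first Janko group and a group without the primes 7 and 19.
-/

set_option autoImplicit false
set_option linter.unusedSectionVars false

namespace Cfsg.Lib.JankoSquare

open Subgroup Cfsg.Lib.Janko

universe u v

variable {G : Type u} [Group G] [Finite G]

/-- An involution fixes an element in each coset of odd size which it permutes. -/
theorem exists_fixed_in_coset {H : Type v} [Group H] {π : G →* H} {t x : G} (ht : t * t = 1) {P : Subgroup G}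
    (hx : x ∈ P) (htP : t ∈ normalizer (P : Set G)) (hodd : ¬ 2 ∣ Nat.card P) (hc : Commute (π t) (π x)) :
    ∃ y ∈ P, π y = π x ∧ Commute t y := by
  classical
  have hi : t⁻¹ = t := inv_eq_of_mul_eq_one_left ht
  let Y := {y : G // y ∈ P ∧ π y = π x}
  have hm : ∀ y : Y, t * (y : G) * t⁻¹ ∈ P ∧ π (t * (y : G) * t⁻¹) = π x := fun y =>
    ⟨conj_mem_of_normalizer htP y.2.1, by rw [map_mul, map_mul, y.2.2, hc.eq, map_inv, mul_inv_cancel_right]⟩
  let σ : Equiv.Perm Y := Function.Involutive.toPerm (fun y => ⟨t * (y : G) * t⁻¹, hm y⟩) fun y => Subtype.ext (by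
    show t * (t * (y : G) * t⁻¹) * t⁻¹ = y
    rw [hi]
    calc t * (t * (y : G) * t) * t = t * t * (y : G) * (t * t) := by group
      _ = y := by rw [ht, one_mul, mul_one])
  have hcard : Nat.card Y = Nat.card (π.ker ⊓ P : Subgroup G) := Nat.card_congr
    { toFun := fun y => ⟨x⁻¹ * y, MonoidHom.mem_ker.2 (by rw [map_mul, map_inv, y.2.2, inv_mul_cancel]),
        P.mul_mem (P.inv_mem hx) y.2.1⟩
      invFun := fun z => ⟨x * z, P.mul_mem hx z.2.2, by rw [map_mul, MonoidHom.mem_ker.1 z.2.1, mul_one]⟩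
      left_inv := fun y => Subtype.ext (mul_inv_cancel_left x y)
      right_inv := fun z => Subtype.ext (inv_mul_cancel_left x z) }
  letI : Fintype Y := Fintype.ofFinite _
  have hndvd : ¬ 2 ∣ Fintype.card Y := by
    rw [← Nat.card_eq_fintype_card, hcard]
    exact fun h => hodd (h.trans (card_dvd_of_le inf_le_right))
  haveI : Fact (Nat.Prime 2) := ⟨Nat.prime_two⟩
  obtain ⟨y, hy⟩ := Equiv.Perm.exists_fixed_point_of_prime (p := 2) (n := 1) hndvd (σ := σ)
    (by ext y; rw [pow_one, pow_two]; simp [σ, Function.Involutive.toPerm, mul_assoc, hi, ht, ← mul_assoc t t])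
  exact ⟨y, y.2.1, y.2.2, mul_inv_eq_iff_eq_mul.1 (congrArg Subtype.val hy)⟩

variable {C : Type v} [Group C] [Finite C] {π : G →* J × C}

/-- A four group of lifts inside a subgroup covering the second factor fixes a point and yields a triple. -/
theorem four_in (S : Shape G) (K : Subgroup G) {a b : C} (ha : a * a = 1) (hb : b * b = 1) (hab : Commute a b)
    (ha1 : a ≠ 1) (hb1 : b ≠ 1) (hne : a ≠ b) (hcov : ∀ c : C, ∃ g ∈ K, π g = (1, c)) {Z : Subgroup G}
    (hZ : ∀ x ∈ Z, ∀ y ∈ Z, Commute x y) (hZne : Z ≠ ⊥) (hKZ : K ≤ normalizer (Z : Set G)) :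
    ∃ (t : G) (c : C) (z : G), t ∈ K ∧ t * t = 1 ∧ π t = (1, c) ∧ orderOf t = 2 ∧ z ∈ Z ∧ z ≠ 1 ∧ Commute t z := by
  haveI : Fact (Nat.Prime 2) := ⟨Nat.prime_two⟩
  have hr : ∀ c : C, ((1 : J), c) ∈ (π.comp K.subtype).range := fun c => by
    obtain ⟨g, hg, e⟩ := hcov c; exact ⟨⟨g, hg⟩, e⟩
  obtain ⟨x, y, hx, hy, hxx, hyy, hxy⟩ := lift_four (S.subgroup K) (hr a) (hr b)
    (by simp [ha]) (by simp [hb]) (show Commute ((1 : J), a) (1, b) from Prod.ext rfl hab.eq)
  obtain ⟨t, ht, z, hz, hz1, htz⟩ := four_fixed (congrArg Subtype.val hxx) (congrArg Subtype.val hyy)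
    (hxy.map K.subtype) hZ hZne (hKZ x.2) (hKZ y.2)
  have key : ∀ (s : K) (c : C), c ≠ 1 → s * s = 1 → π (s : G) = (1, c) → (s : G) = t →
      ∃ (t : G) (c : C) (z : G), t ∈ K ∧ t * t = 1 ∧ π t = (1, c) ∧ orderOf t = 2 ∧ z ∈ Z ∧ z ≠ 1 ∧ Commute t z := by
    rintro s c hc hs hπs rfl
    refine ⟨(s : G), c, z, s.2, congrArg Subtype.val hs, hπs, orderOf_eq_prime ?_ fun e => hc ?_, hz, hz1, htz⟩
    · rw [pow_two]; exact congrArg Subtype.val hs
    · rw [e, map_one] at hπs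
      exact (congrArg Prod.snd hπs).symm
  rcases ht with rfl | rfl | rfl
  · exact key x a ha1 hxx hx rfl
  · exact key y b hb1 hyy hy rfl
  · refine key (x * y) (a * b) (fun e => hne ?_) ?_ ?_ rfl
    · rw [eq_inv_of_mul_eq_one_left e, inv_eq_of_mul_eq_one_left hb]
    · rw [hxy.symm.mul_mul_mul_comm, hxx, hyy, one_mul]
    · rw [Subgroup.coe_mul, map_mul, show π (x : G) = (1, a) from hx, show π (y : G) = (1, b) from hy]
      simp

/-- The prime 7 does not divide the kernel. -/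
theorem seven_not_dvd (S : Shape G) (hπ : Function.Surjective π) {a b : C} (ha : a * a = 1) (hb : b * b = 1)
    (hab : Commute a b) (ha1 : a ≠ 1) (hb1 : b ≠ 1) (hne : a ≠ b) : ¬ 7 ∣ Nat.card π.ker := by
  intro h7
  haveI : Fact (Nat.Prime 7) := ⟨by norm_num⟩
  haveI : Fact (Nat.Prime 11) := ⟨by norm_num⟩
  obtain ⟨P⟩ := (inferInstance : Nonempty (Sylow 7 π.ker))
  set W := (P : Subgroup π.ker).map π.ker.subtype with hW
  have hWne : W ≠ ⊥ := fun e => by
    rw [hW, map_eq_bot_iff_of_injective _ π.ker.subtype_injective] at e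
    have := P.dvd_card_of_dvd_card h7
    rw [e, card_bot] at this
    norm_num at this
  obtain ⟨Z, hZW, hZne, hZc, hZn⟩ := exists_centre (P.2.map π.ker.subtype : IsPGroup 7 W) hWne
  set N := normalizer (W : Set G) with hN
  set GJ := N ⊓ ((MonoidHom.snd J C).comp π).ker with hGJ
  obtain ⟨L, hL⟩ := exists_min (((MonoidHom.fst J C).comp π).comp GJ.subtype) fun y => by
    obtain ⟨g, hg, e⟩ := normalizer_covers hπ P (y, 1)
    exact ⟨⟨g, hg, by simp [MonoidHom.mem_ker, e]⟩, by simp [e]⟩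
  have hcent := hL.centralises S (GJ.subtype.comp L.subtype) (GJ.subtype_injective.comp L.subtype_injective)
    (by simp : (7 : ℕ) ∈ ([2, 3, 7] : List ℕ)) (P.2.map π.ker.subtype) fun l => (l : GJ).2.1
  obtain ⟨l, hl⟩ := hL.surj elevenElt
  obtain ⟨n, -, hn, k, hk⟩ := exists_pow_map (((MonoidHom.fst J C).comp π).comp (GJ.subtype.comp L.subtype)) (r := 11)
    (g := l) (by rw [show (((MonoidHom.fst J C).comp π).comp (GJ.subtype.comp L.subtype)) l = elevenElt from hl]; exact eleven_order)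
  rw [show (((MonoidHom.fst J C).comp π).comp (GJ.subtype.comp L.subtype)) l = elevenElt from hl] at hn
  set x : G := (((l ^ n : L) : GJ) : G) with hxdef
  have hx1 : (π x).1 = elevenElt := hn
  have hx2 : (π x).2 = 1 := MonoidHom.mem_ker.1 ((l ^ n : L) : GJ).2.2
  have hxZ : ∀ z ∈ Z, Commute x z := fun z hz => hcent (l ^ n) z (hZW hz)
  set A := (zpowers elevenElt).prod (⊥ : Subgroup C) with hA
  set N' := N ⊓ ((centralizer ({elevenElt} : Set J)).prod (⊤ : Subgroup C)).comap π with hN'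
  set Y := (N ⊓ A.comap π ⊓ centralizer (Z : Set G)).subgroupOf N' with hY
  have hxN' : x ∈ N' := ⟨((l ^ n : L) : GJ).2.1,
    show π x ∈ (centralizer ({elevenElt} : Set J)).prod (⊤ : Subgroup C) from
    ⟨by rw [hx1]; exact mem_centralizer_singleton_iff.2 rfl, mem_top _⟩⟩
  have hxY : (⟨x, hxN'⟩ : N') ∈ Y := ⟨⟨((l ^ n : L) : GJ).2.1, show π x ∈ A from
    ⟨hx1 ▸ mem_zpowers _, hx2⟩⟩, mem_centralizer_iff.2 fun z hz => (hxZ z hz).eq.symm⟩
  haveI : Y.Normal := by
    refine ⟨fun y hy g => ⟨⟨?_, show π ((g : G) * (y : G) * (g : G)⁻¹) ∈ A from ?_⟩, ?_⟩⟩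
    · exact N.mul_mem (N.mul_mem g.2.1 hy.1.1) (N.inv_mem g.2.1)
    · have hy12 : π (y : G) ∈ A := hy.1.2
      obtain ⟨j, hj⟩ := mem_zpowers_iff.1 (show (π (y : G)).1 ∈ zpowers elevenElt from hy12.1)
      have hc : Commute (π (g : G)).1 elevenElt := mem_centralizer_singleton_iff.1 g.2.2.1
      rw [map_mul, map_mul, map_inv]
      refine ⟨?_, ?_⟩
      · show (π (g : G)).1 * (π (y : G)).1 * (π (g : G)).1⁻¹ ∈ zpowers elevenElt
        rw [← hj, (hc.zpow_right j).eq, mul_inv_cancel_right]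
        exact zpow_mem (mem_zpowers _) _
      · show (π (g : G)).2 * (π (y : G)).2 * (π (g : G)).2⁻¹ ∈ (⊥ : Subgroup C)
        rw [show (π (y : G)).2 = 1 from mem_bot.1 hy12.2, mul_one, mul_inv_cancel]
        exact one_mem _
    · refine mem_centralizer_iff.2 fun z hz => ?_
      have hz' : (g : G)⁻¹ * z * (g : G) ∈ Z := by
        simpa using conj_mem_of_normalizer (inv_mem (hZn g.2.1)) hz
      have h1 : (g : G)⁻¹ * z * (g : G) * (y : G) = (y : G) * ((g : G)⁻¹ * z * (g : G)) :=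
        mem_centralizer_iff.1 hy.2 _ hz'
      show z * ((g : G) * (y : G) * (g : G)⁻¹) = (g : G) * (y : G) * (g : G)⁻¹ * z
      calc z * ((g : G) * (y : G) * (g : G)⁻¹) = (g : G) * ((g : G)⁻¹ * z * (g : G) * (y : G)) * (g : G)⁻¹ := by group
        _ = (g : G) * (y : G) * (g : G)⁻¹ * z := by rw [h1]; group
  have hxp : IsPGroup 11 (zpowers (⟨⟨x, hxN'⟩, hxY⟩ : Y)) := by
    intro z
    obtain ⟨i, hi⟩ := mem_zpowers_iff.1 z.2
    refine ⟨k, Subtype.ext ?_⟩
    show (z : Y) ^ 11 ^ k = 1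
    rw [← hi, ← zpow_natCast, ← zpow_mul, mul_comm, zpow_mul, zpow_natCast]
    refine (congrArg (fun w => w ^ i) ?_).trans (one_zpow i)
    refine Subtype.ext (Subtype.ext ?_)
    show x ^ 11 ^ k = 1
    rw [hxdef, show (((l ^ n : L) : GJ) : G) ^ 11 ^ k = ((((l ^ n) ^ 11 ^ k : L) : GJ) : G) by simp, hk]
    simp
  obtain ⟨Q, hQ⟩ := hxp.exists_le_sylow
  set P' := ((Q : Subgroup Y).map Y.subtype).map N'.subtype with hP'
  set K := (normalizer (((Q : Subgroup Y).map Y.subtype : Subgroup N') : Set N')).map N'.subtype with hK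
  have hxP : x ∈ P' := ⟨_, ⟨_, hQ (mem_zpowers _), rfl⟩, rfl⟩
  have hKP : ∀ g ∈ K, g ∈ normalizer (P' : Set G) := by
    rintro _ ⟨g, hg, rfl⟩
    refine mem_normalizer_fintype ?_
    rintro _ ⟨w, hw, rfl⟩
    exact ⟨_, conj_mem_of_normalizer hg hw, by simp⟩
  have hQK : ∀ y ∈ P', y ∈ K := by
    rintro _ ⟨w, hw, rfl⟩
    exact ⟨w, le_normalizer hw, rfl⟩
  have hP'A : ∀ y ∈ P', π y ∈ A ∧ y ∈ centralizer (Z : Set G) := by
    rintro _ ⟨_, ⟨w, -, rfl⟩, rfl⟩
    exact ⟨w.2.1.2, w.2.2⟩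
  have hcov : ∀ c : C, ∃ g ∈ K, π g = (1, c) := by
    intro c
    obtain ⟨g, hg, e⟩ := normalizer_covers hπ P (1, c)
    have hgN' : g ∈ N' := ⟨hg, show π g ∈ (centralizer ({elevenElt} : Set J)).prod (⊤ : Subgroup C) from e ▸ ⟨one_mem _, mem_top _⟩⟩
    have hmem : (⟨g, hgN'⟩ : N') ∈ normalizer (((Q : Subgroup Y).map Y.subtype : Subgroup N') : Set N') ⊔ Y := by
      rw [Sylow.normalizer_sup_eq_top Q]; exact mem_top _
    obtain ⟨m, hm, y, hy, hmy⟩ := mem_sup_of_normal_right.1 hmem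
    have hy12 : π (y : G) ∈ A := hy.1.2
    obtain ⟨j, hj⟩ := mem_zpowers_iff.1 (show (π (y : G)).1 ∈ zpowers elevenElt from hy12.1)
    refine ⟨(m : G) * x ^ j, mul_mem ⟨m, hm, rfl⟩ (zpow_mem (hQK x hxP) j), ?_⟩
    have e' : π (m : G) * π (y : G) = (1, c) := by
      rw [← map_mul, ← e]; exact congrArg π (congrArg Subtype.val hmy)
    rw [map_mul, map_zpow, ← e']
    congr 1
    refine Prod.ext ?_ ?_
    · rw [Prod.pow_fst, hx1, hj]
    · rw [Prod.pow_snd, hx2, one_zpow]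
      exact (mem_bot.1 hy12.2).symm
  obtain ⟨t, c, z, htK, htt, hπt, hot, hz, hz1, htz⟩ := four_in S K ha hb hab ha1 hb1 hne hcov
    (fun x hx y hy => hZc x hx y (hZW hy)) hZne (by
      rintro _ ⟨g, -, rfl⟩
      exact hZn g.2.1)
  have hPp : IsPGroup 11 P' := (Q.2.map Y.subtype).map N'.subtype
  obtain ⟨y, hy, hyx, hty⟩ := exists_fixed_in_coset (π := π) htt hxP (hKP t htK) (fun h2 => by
    obtain ⟨n, hn⟩ := IsPGroup.iff_card.1 hPp
    rw [hn] at h2
    exact absurd (Nat.prime_two.dvd_of_dvd_pow h2) (by norm_num))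
    (by rw [hπt]; exact Prod.ext (by simp) (by simp [hx2]))
  have hy1 : y ≠ 1 := fun e => by
    rw [e, map_one] at hyx
    have := eleven_order
    rw [← hx1, ← hyx, Prod.fst_one, orderOf_one] at this
    norm_num at this
  exact S.bad3 hot (S.pgroup_orderOf (by norm_num) hPp hy hy1) (S.pgroup_orderOf (by norm_num) (P.2.map _) (hZW hz) hz1)
    hty htz ((mem_centralizer_iff.1 (hP'A y hy).2 z hz).symm) (by norm_num) (by norm_num) (by decide +kernel)

/-- A lift of prime order prime to the kernel has centralizer covering the centralizer of its image. -/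
theorem centralizer_lift {H : Type v} [Group H] {π : G →* H} (hπ : Function.Surjective π) {p : ℕ} [Fact p.Prime]
    (hp : ¬ p ∣ Nat.card π.ker) {a : G} (hao : orderOf a = p) {h : H} (hc : Commute h (π a)) :
    ∃ g, Commute g a ∧ π g = h := by
  set Y := (zpowers (π a)).comap π with hY
  have haY : a ∈ Y := mem_zpowers (π a)
  have hker : π.ker ≤ Y := fun r hr => by
    show π r ∈ zpowers (π a)
    rw [MonoidHom.mem_ker.1 hr]; exact one_mem _
  have hcard : Nat.card Y ∣ p * Nat.card π.ker := by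
    let φ := π.comp Y.subtype
    have h1 := card_eq_card_quotient_mul_card_subgroup φ.ker
    rw [Nat.card_congr (QuotientGroup.quotientKerEquivRange φ).toEquiv] at h1
    rw [h1]
    refine Nat.mul_dvd_mul ((card_dvd_of_le (K := zpowers (π a)) ?_).trans ?_) ?_
    · rintro _ ⟨y, rfl⟩; exact y.2
    · rw [Nat.card_zpowers, ← hao]; exact orderOf_map_dvd π a
    · exact card_dvd_of_injective ((Y.subtype.comp φ.ker.subtype).codRestrict π.ker fun z => z.2)
        fun u v e => Subtype.ext (Subtype.ext (congrArg (fun z : π.ker => (z : G)) e))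
  let S : Sylow p Y := Sylow.ofCard (zpowers (⟨a, haY⟩ : Y)) (by
    rw [Nat.card_zpowers, Subgroup.orderOf_mk, hao]
    have h0 : 0 < Nat.card Y := Nat.card_pos
    have h1 : (Nat.card Y).factorization p = 1 := by
      refine le_antisymm ?_ ((Fact.out : p.Prime).factorization_pos_of_dvd h0.ne'
        (hao ▸ Subgroup.orderOf_dvd_natCard Y haY))
      by_contra hlt
      have h2 := ((pow_dvd_pow p (show 2 ≤ (Nat.card Y).factorization p by omega)).trans
        (Nat.ordProj_dvd _ p)).trans hcard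
      rw [pow_two] at h2
      exact hp ((Nat.mul_dvd_mul_iff_left (Fact.out : p.Prime).pos).1 h2)
    rw [h1, pow_one])
  obtain ⟨g, rfl⟩ := hπ h
  have hgY : ∀ y ∈ Y, g * y * g⁻¹ ∈ Y := fun y hy => by
    obtain ⟨j, hj⟩ := mem_zpowers_iff.1 (hy : π y ∈ zpowers (π a))
    show π (g * y * g⁻¹) ∈ zpowers (π a)
    rw [map_mul, map_mul, map_inv, ← hj, (hc.zpow_right j).eq, mul_inv_cancel_right]
    exact zpow_mem (mem_zpowers _) _
  let T : Sylow p Y := Sylow.ofCard (zpowers (⟨g * a * g⁻¹, hgY a haY⟩ : Y)) (by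
    rw [Nat.card_zpowers, Subgroup.orderOf_mk, show g * a * g⁻¹ = MulAut.conj g a from rfl, MulEquiv.orderOf_eq,
      ← Subgroup.orderOf_mk a haY, ← Nat.card_zpowers]
    exact S.card_eq_multiplicity)
  obtain ⟨y, hy⟩ := MulAction.exists_smul_eq Y T S
  have hmem : (y : G) * (g * a * g⁻¹) * (y : G)⁻¹ ∈ zpowers a := by
    have h1 : y * ⟨g * a * g⁻¹, hgY a haY⟩ * y⁻¹ ∈ (S : Subgroup Y) := by
      rw [← hy, Sylow.coe_subgroup_smul]
      exact ⟨_, mem_zpowers _, rfl⟩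
    obtain ⟨j, hj⟩ := mem_zpowers_iff.1 (h1 : _ ∈ zpowers (⟨a, haY⟩ : Y))
    exact mem_zpowers_iff.2 ⟨j, congrArg Subtype.val hj⟩
  obtain ⟨i, hi⟩ := mem_zpowers_iff.1 (y.2 : π (y : G) ∈ zpowers (π a))
  refine ⟨a ^ (-i) * ((y : G) * g), ?_, by rw [map_mul, map_mul, map_zpow, ← hi, ← mul_assoc, ← zpow_add,
    neg_add_cancel, zpow_zero, one_mul]⟩
  set n := a ^ (-i) * ((y : G) * g) with hn
  obtain ⟨j, hj⟩ := mem_zpowers_iff.1 hmem
  have hna : n * a * n⁻¹ = a ^ j := by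
    rw [hn, show a ^ (-i) * ((y : G) * g) * a * (a ^ (-i) * ((y : G) * g))⁻¹ =
      a ^ (-i) * ((y : G) * (g * a * g⁻¹) * (y : G)⁻¹) * (a ^ (-i))⁻¹ by group, ← hj]
    group
  have hπn : π n = π g := by
    rw [hn, map_mul, map_mul, map_zpow, ← hi, ← mul_assoc, ← zpow_add, neg_add_cancel, zpow_zero, one_mul]
  have h1 : π (a ^ j) = π a := by rw [← hna, map_mul, map_mul, map_inv, hπn, hc.eq, mul_inv_cancel_right]
  have h2 : a ^ (j - 1) ∈ π.ker := MonoidHom.mem_ker.2 (by rw [zpow_sub, zpow_one, map_mul, h1, map_inv, mul_inv_cancel])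
  have h3 : a ^ (j - 1) = 1 := orderOf_eq_one_iff.1 (Nat.eq_one_of_dvd_coprimes
    ((Fact.out : p.Prime).coprime_iff_not_dvd.2 hp)
    (hao ▸ orderOf_dvd_of_mem_zpowers (zpow_mem (mem_zpowers a) _)) (Subgroup.orderOf_dvd_natCard _ h2))
  rw [zpow_sub, zpow_one, mul_inv_eq_one] at h3
  rw [h3] at hna
  exact mul_inv_eq_iff_eq_mul.1 hna

/-- No solvable group below the product of one Janko group and a small group. -/
theorem not_prod (S : Shape G) (ho : HasOrd G) (hπ : Function.Surjective π) [Group.IsSolvable π.ker] {a b : C}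
    (ha : a * a = 1) (hb : b * b = 1) (hab : Commute a b) (ha1 : a ≠ 1) (hb1 : b ≠ 1) (hne : a ≠ b)
    (h7C : ¬ 7 ∣ Nat.card C) (h19C : ¬ 19 ∣ Nat.card C) : False := by
  haveI : Fact (Nat.Prime 7) := ⟨by norm_num⟩
  haveI : Fact (Nat.Prime 19) := ⟨by norm_num⟩
  have h7 := seven_not_dvd S hπ ha hb hab ha1 hb1 hne
  obtain ⟨g, hg⟩ := ho 7 (by simp) 19 (by simp)
  have hg7 : 7 ∣ orderOf g := hg ▸ Nat.dvd_lcm_left 7 19
  have hg19 : 19 ∣ orderOf g := hg ▸ Nat.dvd_lcm_right 7 19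
  set x := g ^ (orderOf g / 7) with hx
  set y := g ^ (orderOf g / 19) with hy
  have hxo : orderOf x = 7 := orderOf_pow_orderOf_div (orderOf_pos g).ne' hg7
  have hyo : orderOf y = 19 := orderOf_pow_orderOf_div (orderOf_pos g).ne' hg19
  have hxy : Commute x y := (Commute.refl g).pow_pow _ _
  have hx2 : (π x).2 = 1 := orderOf_eq_one_iff.1 (Nat.eq_one_of_dvd_coprimes
    ((by norm_num : Nat.Prime 7).coprime_iff_not_dvd.2 h7C)
    (((orderOf_map_dvd ((MonoidHom.snd J C).comp π) x)).trans hxo.dvd) (orderOf_dvd_natCard _))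
  have hy2 : (π y).2 = 1 := orderOf_eq_one_iff.1 (Nat.eq_one_of_dvd_coprimes
    ((by norm_num : Nat.Prime 19).coprime_iff_not_dvd.2 h19C)
    (((orderOf_map_dvd ((MonoidHom.snd J C).comp π) y)).trans hyo.dvd) (orderOf_dvd_natCard _))
  have hx7 : x ^ 7 = 1 := orderOf_dvd_iff_pow_eq_one.1 hxo.dvd
  have hy19 : y ^ 19 = 1 := orderOf_dvd_iff_pow_eq_one.1 hyo.dvd
  have hx1 : orderOf (π x).1 = 7 := orderOf_eq_prime (by
    rw [← Prod.pow_fst, ← map_pow, hx7, map_one, Prod.fst_one]) fun e =>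
    h7 (hxo.symm.dvd.trans (Subgroup.orderOf_dvd_natCard _ (MonoidHom.mem_ker.2 (Prod.ext e hx2))))
  have hyR : y ∈ π.ker := MonoidHom.mem_ker.2 (Prod.ext (by
    by_contra h
    have hy1 : orderOf (π y).1 = 19 := orderOf_eq_prime
      (by rw [← Prod.pow_fst, ← map_pow, hy19, map_one, Prod.fst_one]) h
    exact commute_false hx1 hy1 (hxy.map ((MonoidHom.fst J C).comp π)) (by norm_num) (by decide)) hy2)
  set K₀ := centralizer ({x} : Set G) with hK₀
  set M := π.ker.subgroupOf K₀ with hM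
  have hyK : y ∈ K₀ := mem_centralizer_singleton_iff.2 hxy.eq.symm
  have h19 : IsPGroup 19 (zpowers (⟨⟨y, hyK⟩, hyR⟩ : M)) := IsPGroup.of_card (n := 1) (by
    rw [Nat.card_zpowers, pow_one, ← hyo]; exact (Subgroup.orderOf_coe _).symm.trans (Subgroup.orderOf_coe _).symm)
  obtain ⟨Q, hQ⟩ := h19.exists_le_sylow
  set W₀ := (Q : Subgroup M).map M.subtype with hW₀
  set W := W₀.map K₀.subtype with hW
  have hWp : IsPGroup 19 W := (Q.2.map M.subtype).map K₀.subtype
  have hyW : y ∈ W := ⟨_, ⟨_, hQ (mem_zpowers _), rfl⟩, rfl⟩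
  obtain ⟨Z, hZW, hZne, hZc, hZn⟩ := exists_centre hWp fun e => by
    rw [(Subgroup.eq_bot_iff_forall _).1 e y hyW, orderOf_one] at hyo
    norm_num at hyo
  set K := (normalizer (W₀ : Set K₀)).map K₀.subtype with hK
  have hcov : ∀ c : C, ∃ k ∈ K, π k = (1, c) := by
    intro c
    obtain ⟨k, hk, e⟩ := centralizer_lift hπ h7 hxo (h := ((1 : J), c)) (Prod.ext (by simp) (by simp [hx2]))
    have hkm : (⟨k, mem_centralizer_singleton_iff.2 hk.eq⟩ : K₀) ∈ normalizer (W₀ : Set K₀) ⊔ M := by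
      rw [hW₀, Sylow.normalizer_sup_eq_top Q]; exact mem_top _
    obtain ⟨m, hm, r, hr, hmr⟩ := mem_sup_of_normal_right.1 hkm
    refine ⟨m, ⟨m, hm, rfl⟩, ?_⟩
    have e1 : π ((m : G) * (r : G)) = (1, c) := by rw [← e]; exact congrArg π (congrArg Subtype.val hmr)
    have hr1 : π (r : G) = 1 := hr
    rwa [map_mul, hr1, mul_one] at e1
  obtain ⟨t, c, z, htK, -, -, hot, hz, hz1, htz⟩ := four_in S K ha hb hab ha1 hb1 hne hcov
    (fun u hu w hw => hZc u hu w (hZW hw)) hZne (by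
      rintro _ ⟨k, hk, rfl⟩
      refine hZn (mem_normalizer_fintype ?_)
      rintro _ ⟨w, hw, rfl⟩
      exact ⟨_, conj_mem_of_normalizer hk hw, by simp⟩)
  obtain ⟨t', -, rfl⟩ := htK
  obtain ⟨z', -, hze⟩ := hZW hz
  exact S.bad3 hot hxo (S.pgroup_orderOf (by norm_num) hWp (hZW hz) hz1) (mem_centralizer_singleton_iff.1 t'.2) htz
    ((mem_centralizer_singleton_iff.1 (hze ▸ z'.2 : z ∈ K₀)).symm) (by norm_num) (by norm_num) (by decide +kernel)

end Cfsg.Lib.JankoSquare
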