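import Mathlib
import Cfsg.Agent.Coprime.Hall
import Cfsg.Agent.JankoSquare.CaseJC

/-!
Nothing solvable lies below two Janko groups.
-/

set_option autoImplicit false
set_option linter.unusedSectionVars false

namespace Cfsg.Lib.JankoSquare

open Subgroup Cfsg.Lib.Janko

universe u

theorem janko_four : ∃ a b : J, a * a = 1 ∧ b * b = 1 ∧ Commute a b ∧ a ≠ 1 ∧ b ≠ 1 ∧ a ≠ b := by
  obtain ⟨U, x, hU, F⟩ := frob_seven
  obtain ⟨u, hu, hu1⟩ := F.ne
  have hp : IsPGroup 2 U := IsPGroup.of_card (n := 3) (hU.trans (by norm_num))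
  refine ⟨u, x * u * x⁻¹, ?_, ?_, shape_janko.two_comm hp hu (F.conj u hu), hu1, fun e => hu1 (by
    simpa [conj_eq_one_iff] using e), fun e => hu1 (F.fix u hu (mul_inv_eq_iff_eq_mul.1 e.symm))⟩
  · rw [← pow_two]; exact shape_janko.pgroup_exp Nat.prime_two hp hu
  · rw [← pow_two]; exact shape_janko.pgroup_exp Nat.prime_two hp (F.conj u hu)

variable {G : Type u} [Group G] [Finite G] {π : G →* J × J}

/-- The centralizer of a kernel of small exponent contains the first axis. -/
theorem axis_centralized (S : Shape G) (hπ : Function.Surjective π) {r : ℕ} (hr : r ∈ ([2, 3, 5, 7] : List ℕ))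
    (hp : IsPGroup r π.ker) (a : J) : ((a, 1) : J × J) ∈ (centralizer (π.ker : Set G)).map π := by
  have hrp : r.Prime := by
    simp only [List.mem_cons, List.not_mem_nil, or_false] at hr
    rcases hr with rfl | rfl | rfl | rfl <;> norm_num
  haveI := Fact.mk hrp
  set GJ := ((MonoidHom.snd J J).comp π).ker with hGJ
  obtain ⟨L, hL⟩ := exists_min (((MonoidHom.fst J J).comp π).comp GJ.subtype) fun y => by
    obtain ⟨g, hg⟩ := hπ (y, 1)
    exact ⟨⟨g, by simp [hGJ, MonoidHom.mem_ker, hg]⟩, by simp [hg]⟩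
  set i := GJ.subtype.comp L.subtype with hi'
  have hi : Function.Injective i := GJ.subtype_injective.comp L.subtype_injective
  have hk : ∀ l, (π (i l)).2 = 1 := fun l => MonoidHom.mem_ker.1 (l : GJ).2
  have hnot : ∀ q : ℕ, q.Prime → q ≠ r →
      ¬ q ∣ Nat.card ((((MonoidHom.fst J J).comp π).comp GJ.subtype).comp L.subtype).ker := fun q hq hne hd => by
    haveI := Fact.mk hq
    obtain ⟨⟨l, hl⟩, hlo⟩ := exists_prime_orderOf_dvd_card' q hd
    rw [Subgroup.orderOf_mk] at hlo
    have hmem : i l ∈ π.ker := MonoidHom.mem_ker.2 (Prod.ext (MonoidHom.mem_ker.1 hl) (hk l))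
    obtain ⟨n, hn⟩ := IsPGroup.iff_card.1 hp
    have h1 := Subgroup.orderOf_dvd_natCard _ hmem
    rw [orderOf_injective i hi, hlo, hn] at h1
    exact hne ((Nat.prime_dvd_prime_iff_eq hq hrp).1 (hq.dvd_of_dvd_pow h1))
  obtain ⟨x, hx, hxc⟩ := hL.outside S i hi hr (fun e => hnot 7 (by norm_num) (by omega))
    (fun e => hnot 11 (by norm_num) (by omega)) (fun e => hnot 2 Nat.prime_two (by omega)) hp
    (fun l => by rw [normalizer_eq_top]; exact mem_top _)
  set M := ((centralizer (π.ker : Set G)).map π).comap (MonoidHom.inl J J) with hM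
  haveI : ((centralizer (π.ker : Set G)).map π).Normal := Subgroup.Normal.map inferInstance π hπ
  haveI := janko_simple
  have hMne : M ≠ ⊥ := fun e => hx ((Subgroup.eq_bot_iff_forall _).1 e _
    (show MonoidHom.inl J J ((π (i x)).1) ∈ (centralizer (π.ker : Set G)).map π from
      ⟨i x, mem_centralizer_iff.2 fun w hw => (hxc w hw).eq.symm, Prod.ext rfl (hk x)⟩))
  have := ((inferInstance : M.Normal).eq_bot_or_eq_top).resolve_left hMne
  exact (this.symm ▸ mem_top a : a ∈ M)

/-- The kernel cannot be a nontrivial abelian group of prime exponent. -/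
theorem no_top (S : Shape G) (hπ : Function.Surjective π) (hab : ∀ a ∈ π.ker, ∀ b ∈ π.ker, Commute a b) {r : ℕ}
    (hr : r.Prime) (hexp : ∀ v ∈ π.ker, v ^ r = 1) (hne : π.ker ≠ ⊥) : False := by
  haveI := Fact.mk hr
  obtain ⟨w, hw, hw1⟩ := π.ker.bot_or_exists_ne_one.resolve_left hne
  have hwo : orderOf w = r := orderOf_eq_prime (hexp w hw) hw1
  have hp : IsPGroup r π.ker := fun v => ⟨1, Subtype.ext (by rw [pow_one]; exact hexp v v.2)⟩
  have hmem := S.prime_mem hr (g := w) hwo.symm.dvd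
  by_cases hsmall : r ∈ ([2, 3, 5, 7] : List ℕ)
  · -- the kernel is central
    set C := centralizer (π.ker : Set G) with hC
    have h1 := axis_centralized S hπ hsmall hp
    let π' : G →* J × J := (MulEquiv.prodComm (M := J) (N := J)).toMonoidHom.comp π
    have hker : π'.ker = π.ker := Subgroup.ext fun g => (MulEquiv.prodComm (M := J) (N := J)).map_eq_one_iff
    have hker' : IsPGroup r π'.ker := hker.symm ▸ hp
    have h2 := axis_centralized (π := π') S ((MulEquiv.prodComm (M := J) (N := J)).surjective.comp hπ) hsmall hker'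
    obtain ⟨g, hg⟩ := hπ (elevenElt, xJ)
    have hgC : g ∈ C := by
      obtain ⟨c₁, hc₁, e₁⟩ := h1 elevenElt
      obtain ⟨c₂, hc₂, e₂⟩ := h2 xJ
      rw [hker] at hc₂
      have e₂' : π c₂ = (1, xJ) := by
        have := congrArg (MulEquiv.prodComm (M := J) (N := J)) e₂
        simpa [π'] using this
      have h3 : (c₁ * c₂)⁻¹ * g ∈ π.ker := MonoidHom.mem_ker.2 (by
        rw [map_mul, map_inv, map_mul, e₁, e₂', hg]; simp)
      have h4 : (c₁ * c₂)⁻¹ * g ∈ C := mem_centralizer_iff.2 fun v hv => (hab v hv _ h3).eq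
      have := C.mul_mem (C.mul_mem hc₁ hc₂) h4
      rwa [mul_inv_cancel_left] at this
    have ho : orderOf (π g) = 11 * 19 := by
      rw [hg, Prod.orderOf_mk, eleven_order, xJ_order]; rfl
    have h11 : 11 ∣ orderOf g := (ho ▸ dvd_mul_right 11 19 : 11 ∣ orderOf (π g)).trans (orderOf_map_dvd π g)
    have h19 : 19 ∣ orderOf g := (ho ▸ dvd_mul_left 19 11 : 19 ∣ orderOf (π g)).trans (orderOf_map_dvd π g)
    refine S.bad3 (orderOf_pow_orderOf_div (orderOf_pos g).ne' h11) (orderOf_pow_orderOf_div (orderOf_pos g).ne' h19)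
      hwo ((Commute.refl g).pow_pow _ _) (Commute.pow_left (mem_centralizer_iff.1 hgC w hw).symm _)
      (Commute.pow_left (mem_centralizer_iff.1 hgC w hw).symm _) (by norm_num) ?_ ?_
    · simp only [List.mem_cons, List.not_mem_nil, or_false] at hsmall
      rcases hsmall with rfl | rfl | rfl | rfl <;> norm_num
    · simp only [List.mem_cons, List.not_mem_nil, or_false] at hsmall
      rcases hsmall with rfl | rfl | rfl | rfl <;> decide +kernel
  have hr' : r = 11 ∨ r = 19 := by
    simp only [List.mem_cons, List.not_mem_nil, or_false] at hmem hsmall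
    omega
  haveI : Fact (Nat.Prime 7) := ⟨by norm_num⟩
  set GJ := ((MonoidHom.snd J J).comp π).ker with hGJ
  obtain ⟨L, hL⟩ := exists_min (((MonoidHom.fst J J).comp π).comp GJ.subtype) fun y => by
    obtain ⟨g, hg⟩ := hπ (y, 1)
    exact ⟨⟨g, by simp [hGJ, MonoidHom.mem_ker, hg]⟩, by simp [hg]⟩
  obtain ⟨E, x, -, F, -, hfix⟩ := hL.seven S (GJ.subtype.comp L.subtype) (GJ.subtype_injective.comp L.subtype_injective)
  obtain ⟨v, hv, hv1, hxv⟩ := hfix r hr (by omega) π.ker hp hne (fun l => by rw [normalizer_eq_top]; exact mem_top _)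
  set x' : G := ((x : GJ) : G) with hx'
  have hxo : orderOf x' = 7 := by rw [hx', Subgroup.orderOf_coe, Subgroup.orderOf_coe, F.ord]
  have h7 : ¬ 7 ∣ Nat.card π.ker := fun h => by
    obtain ⟨n, hn⟩ := IsPGroup.iff_card.1 hp
    rw [hn] at h
    have := (Nat.prime_dvd_prime_iff_eq (by norm_num : Nat.Prime 7) hr).1 ((by norm_num : Nat.Prime 7).dvd_of_dvd_pow h)
    omega
  have hx2 : (π x').2 = 1 := MonoidHom.mem_ker.1 (x : GJ).2
  obtain ⟨a, b, ha, hb, hab', ha1, hb1, hab1⟩ := janko_four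
  set D := π.ker ⊓ centralizer ({x'} : Set G) with hD
  obtain ⟨t, c, z, htK, -, -, hot, hz, hz1, htz⟩ := four_in S (centralizer ({x'} : Set G)) ha hb hab' ha1 hb1 hab1
    (fun c => by
      obtain ⟨g, hg, e⟩ := centralizer_lift hπ h7 hxo (h := ((1 : J), c)) (Prod.ext (by simp) (by simp [hx2]))
      exact ⟨g, mem_centralizer_singleton_iff.2 hg.eq, e⟩)
    (Z := D) (fun p hp q hq => hab p hp.1 q hq.1)
    (fun e => hv1 ((Subgroup.eq_bot_iff_forall _).1 e v ⟨hv, mem_centralizer_singleton_iff.2 hxv.eq.symm⟩))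
    (fun g hg => mem_normalizer_fintype fun n hn => ⟨(inferInstance : π.ker.Normal).conj_mem n hn.1 g,
      (centralizer ({x'} : Set G)).mul_mem ((centralizer ({x'} : Set G)).mul_mem hg hn.2)
        ((centralizer ({x'} : Set G)).inv_mem hg)⟩)
  refine S.bad3 hot hxo (orderOf_eq_prime (hexp z hz.1) hz1) (mem_centralizer_singleton_iff.1 htK) htz
    (mem_centralizer_singleton_iff.1 hz.2).symm (by norm_num) ?_ ?_
  · rcases hr' with rfl | rfl <;> norm_num
  · rcases hr' with rfl | rfl <;> decide +kernel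

/-- A solvable kernel below two Janko groups is trivial. -/
theorem ker_trivial (S : Shape G) (hπ : Function.Surjective π) [hs : Group.IsSolvable π.ker] : π.ker = ⊥ := by
  classical
  by_contra hR
  obtain ⟨R₀, ⟨hR₀n, hR₀R, hR₀ne⟩, hmax⟩ :=
    (Set.toFinite {M : Subgroup G | M.Normal ∧ M ≤ π.ker ∧ M ≠ π.ker}).exists_maximal
    ⟨⊥, inferInstance, bot_le, fun e => hR e.symm⟩
  haveI := hR₀n
  let π' : G ⧸ R₀ →* J × J := QuotientGroup.lift R₀ π hR₀R
  have hπ' : Function.Surjective π' := fun y => by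
    obtain ⟨g, hg⟩ := hπ y
    exact ⟨(g : G ⧸ R₀), hg⟩
  haveI : Group.IsSolvable π'.ker := by
    refine Group.isSolvable_of_surjective (f := (((QuotientGroup.mk' R₀).comp π.ker.subtype).codRestrict π'.ker
      fun x => x.2)) ?_
    rintro ⟨x, hx⟩
    obtain ⟨g, rfl⟩ := QuotientGroup.mk'_surjective R₀ x
    exact ⟨⟨g, hx⟩, rfl⟩
  have hne : π'.ker ≠ ⊥ := fun e => hR₀ne (le_antisymm hR₀R fun g hg =>
    (QuotientGroup.eq_one_iff g).1 ((Subgroup.eq_bot_iff_forall _).1 e _ (show π' (g : G ⧸ R₀) = 1 from hg)))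
  have hmin : ∀ W : Subgroup (G ⧸ R₀), W.Normal → W ≤ π'.ker → W = ⊥ ∨ W = π'.ker := by
    intro W hW hle
    haveI := hW
    have h1 : R₀ ≤ W.comap (QuotientGroup.mk' R₀) := fun g hg => by
      show QuotientGroup.mk' R₀ g ∈ W
      rw [show QuotientGroup.mk' R₀ g = 1 from (QuotientGroup.eq_one_iff g).2 hg]
      exact one_mem _
    by_cases h2 : W.comap (QuotientGroup.mk' R₀) = π.ker
    · refine Or.inr (le_antisymm hle fun x hx => ?_)
      obtain ⟨g, rfl⟩ := QuotientGroup.mk'_surjective R₀ x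
      exact (h2.symm.le hx : g ∈ W.comap _)
    · refine Or.inl ((Subgroup.eq_bot_iff_forall _).2 fun x hx => ?_)
      obtain ⟨g, rfl⟩ := QuotientGroup.mk'_surjective R₀ x
      exact (QuotientGroup.eq_one_iff g).2 (hmax ⟨inferInstance, fun y hy => hle (show (y : G ⧸ R₀) ∈ W from hy), h2⟩ h1 hx)
  obtain ⟨hcomm, r, hr, -, hexp⟩ := Cfsg.Lib.Coprime.minimal_normal_solvable (N := π'.ker) inferInstance hne
    (fun M hM hle => hmin M hM hle)
  exact no_top (S.of_surjective _ (QuotientGroup.mk'_surjective R₀)) hπ'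
    (fun a ha b hb => congrArg Subtype.val (hcomm.is_comm.comm ⟨a, ha⟩ ⟨b, hb⟩)) hr hexp hne

end Cfsg.Lib.JankoSquare
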