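import Mathlib
import Cfsg.Agent.Frobenius.FpfGroups
import Cfsg.Agent.JankoSquare.CaseJ

/-!
The primes 11 and 19 of a solvable kernel below one Janko group, and the conclusion of that case.
-/

set_option autoImplicit false
set_option linter.unusedSectionVars false

namespace Cfsg.Lib.JankoSquare

open Subgroup Cfsg.Lib.Janko Cfsg.Lib.ThreePrimes

universe u v

variable {G : Type u} [Group G] [Finite G] {π : G →* J}

/-- A cover normalising an `p`-group and a `q`-group below it, for the primes 11 and 19, leaves order `q`. -/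
theorem card_of_cover (S : Shape G) {L : Type v} [Group L] [Finite L] {f : L →* J} (hL : Min f) (i : L →* G)
    (hi : Function.Injective i) {p q : ℕ} (hp : p ∈ bigTwo) (hq : q ∈ bigTwo) (hpq : p ≠ q) {X W : Subgroup G}
    (hXp : IsPGroup p X) (hXne : X ≠ ⊥) (hXn : ∀ l, i l ∈ normalizer (X : Set G)) (hWp : IsPGroup q W)
    (hWne : W ≠ ⊥) (hWn : ∀ l, i l ∈ normalizer (W : Set G)) (hWX : W ≤ normalizer (X : Set G)) :
    Nat.card W = q := by
  classical
  obtain ⟨hpp, hp2, hp'⟩ := bigTwo_prime hp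
  obtain ⟨hqq, hq2, hq'⟩ := bigTwo_prime hq
  haveI := Fact.mk hpp
  haveI := Fact.mk hqq
  obtain ⟨E, x, hE, F, hinj, -⟩ := hL.seven S i hi
  have hEp : IsPGroup 2 (E.map i) := (IsPGroup.of_card (n := 3) (hE.trans (by norm_num))).map i
  have sq : ∀ e ∈ E.map i, e * e = 1 := fun e he => by rw [← pow_two]; exact S.pgroup_exp Nat.prime_two hEp he
  have hcomm : ∀ a ∈ E.map i, ∀ b ∈ E.map i, Commute a b := fun a ha b hb => S.two_comm hEp ha hb
  -- `x` is transitive on the involutions of `E`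
  have horb : ∀ t ∈ E, t ≠ 1 → ∀ s ∈ E, s ≠ 1 → ∃ k : ℕ, x ^ k * t * (x ^ k)⁻¹ = s := by
    intro t ht ht1 s hs hs1
    let X₀ := {y : E // y ≠ 1}
    haveI : Fintype X₀ := Fintype.ofFinite _
    have hX : Fintype.card X₀ = 7 := by
      rw [← Nat.card_eq_fintype_card]
      letI : Fintype E := Fintype.ofFinite _
      have h := Fintype.card_subtype_compl (fun y : E => y = 1)
      rw [Fintype.card_subtype_eq, ← Nat.card_eq_fintype_card (α := E), hE] at h
      rw [← Nat.card_eq_fintype_card] at h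
      exact h
    have hpow : ∀ (k : ℕ) (y : L), y ∈ E → x ^ k * y * (x ^ k)⁻¹ ∈ E := by
      intro k
      induction k with
      | zero => intro y hy; simpa using hy
      | succ k ih =>
        intro y hy
        have := F.conj _ (ih y hy)
        rwa [pow_succ', show x * x ^ k * y * (x * x ^ k)⁻¹ = x * (x ^ k * y * (x ^ k)⁻¹) * x⁻¹ by group]
    let g : Fin 7 → X₀ := fun k => ⟨⟨x ^ (k : ℕ) * t * (x ^ (k : ℕ))⁻¹, hpow k t ht⟩, fun e => ht1 (by
      simpa [conj_eq_one_iff] using congrArg Subtype.val e)⟩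
    have hg : Function.Injective g := fun a b e => by
      have e' : x ^ (a : ℕ) * t * (x ^ (a : ℕ))⁻¹ = x ^ (b : ℕ) * t * (x ^ (b : ℕ))⁻¹ :=
        congrArg (fun z : X₀ => ((z : E) : L)) e
      set n : ℤ := (a : ℤ) - (b : ℤ) with hn
      have hc : Commute (x ^ n) t := by
        refine mul_inv_eq_iff_eq_mul.1 ?_
        rw [hn, show (a : ℤ) - (b : ℤ) = -(b : ℤ) + (a : ℤ) by ring, zpow_add, zpow_neg, zpow_natCast, zpow_natCast,
          show (x ^ (b : ℕ))⁻¹ * x ^ (a : ℕ) * t * ((x ^ (b : ℕ))⁻¹ * x ^ (a : ℕ))⁻¹ =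
            (x ^ (b : ℕ))⁻¹ * (x ^ (a : ℕ) * t * (x ^ (a : ℕ))⁻¹) * x ^ (b : ℕ) by group, e']
        group
      by_contra hab
      have hd : ¬ (7 : ℤ) ∣ n := fun h => hab (Fin.ext (by have := a.2; have := b.2; omega))
      obtain ⟨u, v, huv⟩ : IsCoprime (7 : ℤ) n := (Int.prime_iff_natAbs_prime.2 (by norm_num)).coprime_iff_not_dvd.2 hd
      refine ht1 (F.fix t ht ?_)
      have hx7 : x ^ (7 : ℤ) = 1 := by
        rw [show (7 : ℤ) = ((7 : ℕ) : ℤ) by norm_num, zpow_natCast, ← F.ord, pow_orderOf_eq_one]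
      have hxe : x = (x ^ n) ^ v := by
        conv_lhs => rw [← zpow_one x, ← huv, mul_comm u, zpow_add, zpow_mul, hx7, one_zpow, one_mul, mul_comm, zpow_mul]
      rw [hxe]
      exact hc.zpow_left v
    obtain ⟨k, hk⟩ := ((Fintype.bijective_iff_injective_and_card g).2
      ⟨hg, by rw [Fintype.card_fin, hX]⟩).2 ⟨⟨s, hs⟩, fun e => hs1 (congrArg Subtype.val e)⟩
    exact ⟨k, congrArg (fun z : X₀ => ((z : E) : L)) hk⟩
  obtain ⟨u, hu, hu1⟩ := F.ne
  obtain ⟨v, hv, hv1, hvu⟩ : ∃ v ∈ E, v ≠ 1 ∧ v ≠ u := ⟨x * u * x⁻¹, F.conj u hu, fun e => hu1 (by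
    simpa [conj_eq_one_iff] using e), fun e => hu1 (F.fix u hu (mul_inv_eq_iff_eq_mul.1 e))⟩
  have huv : u * v ∈ E ∧ u * v ≠ 1 := ⟨E.mul_mem hu hv, fun e => hvu (by
    have h2 : i (u * u) = i 1 := by rw [map_mul, map_one]; exact sq _ ⟨u, hu, rfl⟩
    rw [eq_inv_of_mul_eq_one_right e, inv_eq_of_mul_eq_one_left (hi h2)])⟩
  -- every involution of `E` fixes a point of each subgroup
  have hfix : ∀ {r : ℕ}, r.Prime → ∀ Y : Subgroup G, IsPGroup r Y → Y ≠ ⊥ → (∀ l, i l ∈ normalizer (Y : Set G)) →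
      ∀ s ∈ E, s ≠ 1 → ∃ w ∈ Y, w ≠ 1 ∧ Commute (i s) w := by
    intro r hr Y hY hYne hYn s hs hs1
    haveI := Fact.mk hr
    obtain ⟨Z, hZY, hZne, hZc, hZn⟩ := exists_centre hY hYne
    obtain ⟨t, ht, z, hz, hz1, htz⟩ := four_fixed (sq _ ⟨u, hu, rfl⟩) (sq _ ⟨v, hv, rfl⟩)
      (hcomm _ ⟨u, hu, rfl⟩ _ ⟨v, hv, rfl⟩) (fun a ha b hb => hZc a ha b (hZY hb)) hZne (hZn (hYn u)) (hZn (hYn v))
    obtain ⟨t', ht', ht1, rfl⟩ : ∃ t' ∈ E, t' ≠ 1 ∧ i t' = t := by
      rcases ht with rfl | rfl | rfl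
      · exact ⟨u, hu, hu1, rfl⟩
      · exact ⟨v, hv, hv1, rfl⟩
      · exact ⟨u * v, huv.1, huv.2, map_mul _ _ _⟩
    obtain ⟨k, rfl⟩ := horb t' ht' ht1 s hs hs1
    refine ⟨i (x ^ k) * z * (i (x ^ k))⁻¹, conj_mem_of_normalizer (hYn _) (hZY hz), fun e => hz1 (by
      simpa [conj_eq_one_iff] using e), ?_⟩
    rw [map_mul, map_mul, map_inv]
    exact htz.map (MulAut.conj (i (x ^ k)))
  obtain ⟨V, hVX, hVne, hVc, hVn⟩ := exists_centre hXp hXne
  -- the fixed points of an involution on `W`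
  have hgen : ∀ s ∈ E, s ≠ 1 → ∃ c ∈ W, orderOf c = q ∧ Commute (i s) c ∧
      ∀ d ∈ W, Commute (i s) d → d ∈ zpowers c := by
    intro s hs hs1
    obtain ⟨c, hc, hc1, hsc⟩ := hfix hqq W hWp hWne hWn s hs hs1
    refine ⟨c, hc, S.pgroup_orderOf hqq hWp hc hc1, hsc, fun d hd hsd => ?_⟩
    obtain ⟨w₀, hw₀, hw₀1, hsw⟩ := hfix hpp V (hXp.to_le hVX) hVne (fun l => hVn (hXn l)) s hs hs1
    set A := W ⊓ centralizer ({i s} : Set G) with hA
    set V' := V ⊓ centralizer ({i s} : Set G) with hV'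
    have hAV : A ≤ normalizer (V' : Set G) := fun a ha => mem_normalizer_fintype fun z hz =>
      ⟨conj_mem_of_normalizer (hVn (hWX ha.1)) hz.1, mem_centralizer_singleton_iff.2 (by
        have h1 : Commute (i s) a := (mem_centralizer_singleton_iff.1 ha.2).symm
        have h2 : Commute (i s) z := (mem_centralizer_singleton_iff.1 hz.2).symm
        exact ((h1.mul_right h2).mul_right h1.inv_right).eq.symm)⟩
    have hfp : Cfsg.Lib.Frobenius.Fpf A V' := fun a ha ha1 => by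
      refine (Subgroup.eq_bot_iff_forall _).2 fun z hz => ?_
      by_contra hz1
      refine S.bad3 (S.pgroup_orderOf Nat.prime_two hEp ⟨s, hs, rfl⟩ fun e => hs1 (hi (e.trans (map_one i).symm)))
        (S.pgroup_orderOf hpp hXp (hVX hz.1.1) hz1) (S.pgroup_orderOf hqq hWp ha.1 ha1)
        (mem_centralizer_singleton_iff.1 hz.1.2).symm (mem_centralizer_singleton_iff.1 ha.2).symm
        (mem_centralizer_singleton_iff.1 hz.2) ?_ ?_ ?_
      all_goals rcases hp' with rfl | rfl <;> rcases hq' with rfl | rfl <;> first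
        | exact absurd rfl hpq
        | decide +kernel
        | norm_num
    have hne' : V' ≠ ⊥ := fun e => hw₀1 ((Subgroup.eq_bot_iff_forall _).1 e w₀
      ⟨hw₀, mem_centralizer_singleton_iff.2 hsw.eq.symm⟩)
    rcases eq_or_ne d 1 with rfl | hd1
    · exact one_mem _
    have hu' := hfp.unique hAV hne' (hWp.to_le inf_le_left) ⟨c, hc, mem_centralizer_singleton_iff.2 hsc.eq.symm⟩
      ⟨d, hd, mem_centralizer_singleton_iff.2 hsd.eq.symm⟩
      ((Subgroup.orderOf_mk c _).trans (S.pgroup_orderOf hqq hWp hc hc1))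
      ((Subgroup.orderOf_mk d _).trans (S.pgroup_orderOf hqq hWp hd hd1))
    obtain ⟨j, hj⟩ := mem_zpowers_iff.1 hu'
    exact mem_zpowers_iff.2 ⟨j, congrArg Subtype.val hj⟩
  choose! c hcW hco hcc hcall using hgen
  -- all these fixed points are the same
  have hsame : ∀ s ∈ E, s ≠ 1 → ∀ s' ∈ E, s' ≠ 1 → c s' ∈ zpowers (c s) := by
    intro s hs hs1 s' hs' hs'1
    have haux : ∀ e ∈ E, ∀ t ∈ E, t ≠ 1 → i e * c t * (i e)⁻¹ = c t ∨ i e * c t * (i e)⁻¹ = (c t)⁻¹ := by
      intro e he t ht ht1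
      set d := i e * c t * (i e)⁻¹
      have hd : d ∈ W := conj_mem_of_normalizer (hWn e) (hcW t ht ht1)
      have htd : Commute (i t) d := ((hcomm _ ⟨t, ht, rfl⟩ _ ⟨e, he, rfl⟩).mul_right (hcc t ht ht1)).mul_right
        (hcomm _ ⟨t, ht, rfl⟩ _ ⟨e, he, rfl⟩).inv_right
      obtain ⟨j, hj⟩ := mem_zpowers_iff.1 (hcall t ht ht1 d hd htd)
      have h2 : i e * d * (i e)⁻¹ = c t := by
        show i e * (i e * c t * (i e)⁻¹) * (i e)⁻¹ = c t
        rw [inv_eq_of_mul_eq_one_left (sq _ ⟨e, he, rfl⟩)]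
        calc i e * (i e * c t * i e) * i e = (i e * i e) * c t * (i e * i e) := by group
          _ = c t := by rw [sq _ ⟨e, he, rfl⟩, one_mul, mul_one]
      have h3 : c t ^ (j * j) = c t := by
        rw [zpow_mul, hj]
        show (i e * c t * (i e)⁻¹) ^ j = c t
        rw [conj_zpow, hj, h2]
      have hdv : (q : ℤ) ∣ j * j - 1 := by
        rw [← hco t ht ht1, orderOf_dvd_iff_zpow_eq_one, zpow_sub, zpow_one, h3, mul_inv_cancel]
      rw [show j * j - 1 = (j - 1) * (j + 1) by ring] at hdv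
      rcases (Nat.prime_iff_prime_int.1 hqq).dvd_mul.1 hdv with h | h
      · left
        rw [← hco t ht ht1, orderOf_dvd_iff_zpow_eq_one, zpow_sub, zpow_one, mul_inv_eq_one] at h
        show d = _
        rw [← hj, h]
      · right
        rw [← hco t ht ht1, orderOf_dvd_iff_zpow_eq_one, zpow_add, zpow_one] at h
        show d = _
        rw [← hj]
        exact eq_inv_of_mul_eq_one_left h
    let g : E → Bool × Bool := fun e => (decide (i e * c s * (i e)⁻¹ = c s), decide (i e * c s' * (i e)⁻¹ = c s'))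
    letI : Fintype E := Fintype.ofFinite _
    obtain ⟨a, b, hab, hgab⟩ := Fintype.exists_ne_map_eq_of_card_lt g (by
      rw [← Nat.card_eq_fintype_card (α := E), hE]; decide)
    have key : ∀ t ∈ E, t ≠ 1 → decide (i a * c t * (i a)⁻¹ = c t) = decide (i b * c t * (i b)⁻¹ = c t) →
        Commute (i ((b : L)⁻¹ * a)) (c t) := by
      intro t ht ht1 hd
      have e1 : i a * c t * (i a)⁻¹ = i b * c t * (i b)⁻¹ := by
        by_cases h : i a * c t * (i a)⁻¹ = c t
        · rw [h, of_decide_eq_true (hd.symm.trans (decide_eq_true h))]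
        · have h' : ¬ i b * c t * (i b)⁻¹ = c t := fun e => h (of_decide_eq_true (hd.trans (decide_eq_true e)))
          rw [(haux a a.2 t ht ht1).resolve_left h, (haux b b.2 t ht ht1).resolve_left h']
      rw [map_mul, map_inv]
      refine mul_inv_eq_iff_eq_mul.1 ?_
      calc (i b)⁻¹ * i a * c t * ((i b)⁻¹ * i a)⁻¹ = (i b)⁻¹ * (i a * c t * (i a)⁻¹) * i b := by group
        _ = c t := by rw [e1]; group
    have he : ((b : L)⁻¹ * a) ∈ E := E.mul_mem (E.inv_mem b.2) a.2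
    have he1 : (b : L)⁻¹ * a ≠ 1 := fun e => hab (Subtype.ext (inv_mul_eq_one.1 e).symm)
    have k1 := hcall _ he he1 (c s) (hcW s hs hs1) (key s hs hs1 (congrArg Prod.fst hgab))
    have k2 := hcall _ he he1 (c s') (hcW s' hs' hs'1) (key s' hs' hs'1 (congrArg Prod.snd hgab))
    have e : zpowers (c s) = zpowers (c ((b : L)⁻¹ * a)) := eq_of_le_of_card_ge (zpowers_le.2 k1) (by
      rw [Nat.card_zpowers, Nat.card_zpowers, hco _ he he1, hco s hs hs1])
    rwa [e]
  have hW : W = zpowers (c u) := by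
    refine le_antisymm (fun w hw => ?_) (zpowers_le.2 (hcW u hu hu1))
    have hodd : Odd (Nat.card W) := by
      obtain ⟨n, hn⟩ := IsPGroup.iff_card.1 hWp
      rw [hn]
      exact (hqq.odd_of_ne_two hq2).pow
    obtain ⟨a, b, d, e, ha, hb, hd, he, haW, hbW, hdW, heW, rfl⟩ :=
      Cfsg.Lib.RankOne.four_generation (sq _ ⟨u, hu, rfl⟩) (sq _ ⟨v, hv, rfl⟩) (hcomm _ ⟨u, hu, rfl⟩ _ ⟨v, hv, rfl⟩).eq
        hodd (fun z hz => conj_mem_of_normalizer (hWn u) hz) (fun z hz => conj_mem_of_normalizer (hWn v) hz) hw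
    have hmem : ∀ s ∈ E, s ≠ 1 → ∀ z ∈ W, z * i s = i s * z → z ∈ zpowers (c u) := fun s hs hs1 z hz hzs => by
      obtain ⟨j, rfl⟩ := mem_zpowers_iff.1 (hcall s hs hs1 z hz hzs.symm)
      exact zpow_mem (hsame u hu hu1 s hs hs1) j
    exact mul_mem (mul_mem (mul_mem (hmem u hu hu1 a haW ha) (hmem v hv hv1 b hbW hb))
      (hmem _ huv.1 huv.2 d hdW (by rw [map_mul]; exact hd))) (hmem v hv hv1 e heW he)
  rw [hW, Nat.card_zpowers, hco u hu hu1]

/-- The kernel has no edge between 11 and 19. -/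
theorem no_edge_big (S : Shape G) (hπ : Function.Surjective π) [Group.IsSolvable π.ker] :
    ¬ Edge π.ker 11 19 := by
  rintro ⟨⟨e, he⟩, heo⟩
  rw [Subgroup.orderOf_mk] at heo
  set σ : Set ℕ := {n | n ∈ bigTwo} with hσ
  obtain ⟨H, hH, hle⟩ := Cfsg.Lib.Coprime.exists_piHall_ge (π := σ) (K := zpowers (⟨e, he⟩ : π.ker))
    (fun r hr hrd => by
      rw [Nat.card_zpowers, Subgroup.orderOf_mk, heo] at hrd
      show r ∈ bigTwo
      rcases hr.dvd_mul.1 hrd with h | h <;> rw [(Nat.prime_dvd_prime_iff_eq hr (by norm_num)).1 h] <;> simp [bigTwo])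
  set H' := H.map π.ker.subtype with hH'
  set K := normalizer (H' : Set G) with hKdef
  have heH : e ∈ H' := ⟨⟨e, he⟩, hle (mem_zpowers _), rfl⟩
  have hK : Function.Surjective (π.comp K.subtype) := by
    intro y
    obtain ⟨g, rfl⟩ := hπ y
    let α : MulAut π.ker := MulAut.conjNormal g
    obtain ⟨k, hk⟩ := Cfsg.Lib.Coprime.piHall_conj hH
      (Cfsg.Lib.Coprime.isPiHall_map hH (f := α.toMonoidHom) α.surjective)
    refine ⟨⟨(k : G)⁻¹ * g, mem_normalizer_fintype ?_⟩, by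
      show π ((k : G)⁻¹ * g) = π g
      rw [map_mul, map_inv, MonoidHom.mem_ker.1 k.2, inv_one, one_mul]⟩
    rintro _ ⟨h, hh, rfl⟩
    have h1 : α h ∈ H.map α.toMonoidHom := ⟨h, hh, rfl⟩
    rw [hk, Cfsg.Lib.Coprime.mem_conjMap] at h1
    refine ⟨_, h1, ?_⟩
    show (k : G)⁻¹ * (g * (h : G) * g⁻¹) * (k : G) = (k : G)⁻¹ * g * (h : G) * ((k : G)⁻¹ * g)⁻¹
    group
  set M := H'.subgroupOf K with hM
  haveI hMn : M.Normal := Subgroup.normal_subgroupOf_of_le_normalizer le_rfl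
  have hHK : H' ≤ K := le_normalizer
  have hMne : M ≠ ⊥ := fun h => by
    have h1 : (⟨e, hHK heH⟩ : K) = 1 := (Subgroup.eq_bot_iff_forall _).1 h _ heH
    have he1 : e = 1 := congrArg Subtype.val h1
    rw [he1, orderOf_one] at heo
    norm_num at heo
  haveI : Group.IsSolvable H' := Group.isSolvable_of_isSolvable_injective
    (inclusion_injective (map_subtype_le H : H' ≤ π.ker))
  have hMs : Group.IsSolvable M := Group.isSolvable_of_isSolvable_injective
    (f := (subgroupOfEquivOfLe hHK).toMonoidHom) (subgroupOfEquivOfLe hHK).injective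
  obtain ⟨N, hNM, hNn, hNne, hNmin⟩ := Cfsg.Lib.Coprime.exists_minimal_normal hMn hMne
  haveI := hNn
  obtain ⟨-, p, hp, hNp, -⟩ := Cfsg.Lib.Coprime.minimal_normal_solvable
    (Group.isSolvable_of_isSolvable_injective (inclusion_injective hNM)) hNne hNmin
  haveI := Fact.mk hp
  have hpb : p ∈ bigTwo := by
    obtain ⟨n, hn⟩ := IsPGroup.iff_card.1 hNp
    have hn0 : n ≠ 0 := fun h => hNne (card_eq_one.1 (by rw [hn, h, pow_zero]))
    have h1 : p ∣ Nat.card M := (hn ▸ dvd_pow_self p hn0).trans (card_dvd_of_le hNM)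
    rw [Nat.card_congr (subgroupOfEquivOfLe hHK).toEquiv, hH', card_map_of_injective π.ker.subtype_injective] at h1
    exact hH.1 p hp h1
  obtain ⟨q, hqb, hpq⟩ : ∃ q ∈ bigTwo, p ≠ q := by
    rcases (bigTwo_prime hpb).2.2 with rfl | rfl
    · exact ⟨19, by simp [bigTwo], by norm_num⟩
    · exact ⟨11, by simp [bigTwo], by norm_num⟩
  obtain ⟨hqp, hq2, hq'⟩ := bigTwo_prime hqb
  haveI := Fact.mk hqp
  have hpd : p ∣ orderOf e ∧ q ∣ orderOf e := by
    rw [heo]
    rcases (bigTwo_prime hpb).2.2 with rfl | rfl <;> rcases hq' with rfl | rfl <;>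
      first | exact absurd rfl hpq | norm_num
  set b := e ^ (orderOf e / p) with hb
  set d := e ^ (orderOf e / q) with hd
  have hbo : orderOf b = p := orderOf_pow_orderOf_div (orderOf_pos e).ne' hpd.1
  have hdo : orderOf d = q := orderOf_pow_orderOf_div (orderOf_pos e).ne' hpd.2
  have hdM : (⟨d, hHK (pow_mem heH _)⟩ : K) ∈ M := pow_mem heH _
  have h2 : IsPGroup q (zpowers (⟨⟨d, hHK (pow_mem heH _)⟩, hdM⟩ : M)) := IsPGroup.of_card (n := 1) (by
    rw [Nat.card_zpowers, Subgroup.orderOf_mk, Subgroup.orderOf_mk, hdo, pow_one])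
  obtain ⟨P, hP⟩ := h2.exists_le_sylow
  set W₀ := (P : Subgroup M).map M.subtype with hW₀
  set NK := normalizer (W₀ : Set K) with hNK
  have hMker : ∀ m ∈ M, π (m : G) = 1 := fun m hm => by
    obtain ⟨h, -, hme⟩ := hm
    rw [show (m : G) = (h : G) from hme.symm]
    exact MonoidHom.mem_ker.1 h.2
  have hsurjN : Function.Surjective (π.comp (NK.map K.subtype).subtype) := by
    intro y
    obtain ⟨g, rfl⟩ := hK y
    have hg : g ∈ NK ⊔ M := by rw [hNK, hW₀, Sylow.normalizer_sup_eq_top P]; exact mem_top g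
    obtain ⟨n, hn, m, hm, rfl⟩ := mem_sup_of_normal_right.1 hg
    refine ⟨⟨n, n, hn, rfl⟩, ?_⟩
    show π (n : G) = π ((n : G) * (m : G))
    rw [map_mul, hMker m hm, mul_one]
  obtain ⟨L, hL⟩ := exists_min _ hsurjN
  set X := N.map K.subtype with hX
  set W := W₀.map K.subtype with hW
  have hnorm : ∀ g ∈ NK.map K.subtype, g ∈ normalizer (X : Set G) ∧ g ∈ normalizer (W : Set G) := by
    rintro _ ⟨g, hg, rfl⟩
    refine ⟨mem_normalizer_fintype ?_, mem_normalizer_fintype ?_⟩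
    · rintro _ ⟨z, hz, rfl⟩
      exact ⟨_, hNn.conj_mem z hz g, by simp⟩
    · rintro _ ⟨z, hz, rfl⟩
      exact ⟨_, conj_mem_of_normalizer (W := W₀) hg hz, by simp⟩
  have hdW : d ∈ W := ⟨_, ⟨_, hP (mem_zpowers _), rfl⟩, rfl⟩
  have hcard := card_of_cover (p := p) (q := q) S hL ((NK.map K.subtype).subtype.comp L.subtype)
    ((NK.map K.subtype).subtype_injective.comp L.subtype_injective) hpb hqb hpq (X := X) (W := W)
    (hNp.map _) (by rw [hX, Ne, map_eq_bot_iff_of_injective _ K.subtype_injective]; exact hNne)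
    (fun l => (hnorm _ (l : NK.map K.subtype).2).1) ((P.2.map _).map _)
    (fun h => by
      have := (Subgroup.eq_bot_iff_forall _).1 h d hdW
      rw [this, orderOf_one] at hdo
      exact hqp.ne_one hdo.symm)
    (fun l => (hnorm _ (l : NK.map K.subtype).2).2)
    (fun w hw => by
      obtain ⟨z, -, rfl⟩ := hw
      refine mem_normalizer_fintype ?_
      rintro _ ⟨y, hy, rfl⟩
      exact ⟨_, hNn.conj_mem y hy z, by simp⟩)
  have hWd : W = zpowers d := (eq_of_le_of_card_ge (zpowers_le.2 hdW) (by rw [hcard, Nat.card_zpowers, hdo])).symm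
  have hbd : Commute b d := (Commute.refl e).pow_pow _ _
  refine no_cent_of_order S (NK.map K.subtype) hsurjN hpb hqb hpq hdo (fun g hg => hWd ▸ (hnorm g hg).2)
    (pow_mem he _) ⟨⟨b, hHK (pow_mem heH _)⟩, mem_normalizer_fintype fun z hz => ?_, rfl⟩ hbo hbd
  have hz' : (z : G) ∈ zpowers d := hWd ▸ ⟨z, hz, rfl⟩
  obtain ⟨j, hj⟩ := mem_zpowers_iff.1 hz'
  have hbz : Commute b (z : G) := hj ▸ hbd.zpow_right j
  have : (⟨b, hHK (pow_mem heH _)⟩ : K) * z * (⟨b, hHK (pow_mem heH _)⟩ : K)⁻¹ = z :=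
    Subtype.ext (show b * (z : G) * b⁻¹ = (z : G) by rw [hbz.eq, mul_inv_cancel_right])
  rwa [this]

/-- No solvable group below one Janko group. -/
theorem not_one (S : Shape G) (ho : HasOrd G) (hπ : Function.Surjective π) [Group.IsSolvable π.ker] : False := by
  classical
  set R := π.ker with hR
  have himg : ∀ {g : G} {p : ℕ}, p.Prime → ¬ p ∣ Nat.card R → p ∣ orderOf g → p ∣ orderOf (π g) :=
    fun hp hn hd => dvd_orderOf_map π hp hn hd
  have hpair : ∀ x ∈ ([7, 11, 19] : List ℕ), ∀ y ∈ ([7, 11, 19] : List ℕ), x ≠ y →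
      x ∣ Nat.card R ∨ y ∣ Nat.card R := by
    intro x hx y hy hxy
    by_contra h
    rw [not_or] at h
    obtain ⟨g, hg⟩ := ho x (by simp at hx ⊢; omega) y (by simp at hy ⊢; omega)
    have hxp : x.Prime := by simp at hx; rcases hx with rfl | rfl | rfl <;> norm_num
    have hyp : y.Prime := by simp at hy; rcases hy with rfl | rfl | rfl <;> norm_num
    have h1 := janko_image hx (himg hxp h.1 (hg ▸ Nat.dvd_lcm_left x y))
    have h2 := janko_image hy (himg hyp h.2 (hg ▸ Nat.dvd_lcm_right x y))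
    exact hxy (h1.symm.trans h2)
  have hthree : ∀ z ∈ ([7, 11, 19] : List ℕ), ¬ z ∣ Nat.card R → 3 ∣ Nat.card R := by
    intro z hz hn
    by_contra h3
    obtain ⟨g, hg⟩ := ho z (by simp at hz ⊢; omega) 6 (by simp)
    have hzp : z.Prime := by simp at hz; rcases hz with rfl | rfl | rfl <;> norm_num
    have h1 := janko_image hz (himg hzp hn (hg ▸ Nat.dvd_lcm_left z 6))
    have h2 := himg Nat.prime_three h3 (hg ▸ (by norm_num : 3 ∣ 6).trans (Nat.dvd_lcm_right z 6))
    rw [h1] at h2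
    have := (Nat.prime_dvd_prime_iff_eq Nat.prime_three hzp).1 h2
    subst this
    simp at hz
  have hsmall : ∀ r y, ((r = 3 ∧ (y = 7 ∨ y = 11 ∨ y = 19)) ∨ (r = 7 ∧ (y = 11 ∨ y = 19))) →
      ¬ Edge R r y := by
    rintro r y hry ⟨⟨e, he⟩, heo⟩
    rw [Subgroup.orderOf_mk] at heo
    have hr : r ∣ orderOf e := heo ▸ dvd_mul_right r y
    have hy : y ∣ orderOf e := heo ▸ dvd_mul_left y r
    exact no_edge_small S hπ (pow_mem he _) (pow_mem he _) hry (orderOf_pow_orderOf_div (orderOf_pos e).ne' hr)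
      (orderOf_pow_orderOf_div (orderOf_pos e).ne' hy) ((Commute.refl e).pow_pow _ _)
  have hbig : ¬ Edge R 11 19 := no_edge_big S hπ
  obtain ⟨ρ, hρ, hall, hd⟩ : ∃ ρ : Finset ℕ, 3 ≤ ρ.card ∧
      (∀ a ∈ ρ, a ∈ ([3, 7, 11, 19] : List ℕ)) ∧ ∀ a ∈ ρ, a ∣ Nat.card R := by
    by_cases h7 : 7 ∣ Nat.card R
    · by_cases h11 : 11 ∣ Nat.card R
      · by_cases h19 : 19 ∣ Nat.card R
        · exact ⟨{7, 11, 19}, by decide, by decide, by simp [h7, h11, h19]⟩
        · exact ⟨{3, 7, 11}, by decide, by decide, by simp [hthree 19 (by simp) h19, h7, h11]⟩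
      · exact ⟨{3, 7, 19}, by decide, by decide, by
          simp [hthree 11 (by simp) h11, h7, (hpair 11 (by simp) 19 (by simp) (by norm_num)).resolve_left h11]⟩
    · exact ⟨{3, 11, 19}, by decide, by decide, by
        simp [hthree 7 (by simp) h7, (hpair 7 (by simp) 11 (by simp) (by norm_num)).resolve_left h7,
          (hpair 7 (by simp) 19 (by simp) (by norm_num)).resolve_left h7]⟩
  obtain ⟨a, ha, b, hb, hab, he⟩ := edge_solvable (G := R) ρ hρ fun r hr => ⟨by
    have := hall r hr; simp at this; rcases this with rfl | rfl | rfl | rfl <;> norm_num, hd r hr⟩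
  have ha' := hall a ha
  have hb' := hall b hb
  simp only [List.mem_cons, List.not_mem_nil, or_false] at ha' hb'
  rcases ha' with rfl | rfl | rfl | rfl <;> rcases hb' with rfl | rfl | rfl | rfl <;> first
    | exact hab rfl
    | exact hsmall _ _ (by omega) he
    | exact hsmall _ _ (by omega) he.symm
    | exact hbig he
    | exact hbig he.symm

end Cfsg.Lib.JankoSquare
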