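import Mathlib
import Cfsg.Agent.Walter.Main
import Cfsg.Agent.Ree.Field.Final
import Cfsg.Agent.Known.SLTwo.Spectrum
import Cfsg.Agent.CITExt.Socle
import Cfsg.Agent.S0252
import Cfsg.Agent.S0253
import Cfsg.Agent.S0343
import Cfsg.Agent.S1644
import Cfsg.Agent.JankoSquare.Spec

/-!
The simple groups with the shape of the spectrum of the square of the first Janko group.
-/

set_option autoImplicit false
set_option linter.unusedSectionVars false

namespace Cfsg.Lib.JankoSquare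

open Subgroup

universe u v

/-- `PSL(2, 5)` or `PSL(2, 11)`. -/
def IsSmall (T : Type u) [Group T] : Prop :=
  ∃ (F : Type) (_ : Field F) (_ : Fintype F), (Fintype.card F = 5 ∨ Fintype.card F = 11) ∧
    Nonempty (T ≃* Matrix.ProjectiveSpecialLinearGroup (Fin 2) F)

theorem spectrum_mem {G : Type u} [Group G] (S : Shape G) {F : Type} [Field F] [Fintype F]
    (f : Matrix.ProjectiveSpecialLinearGroup (Fin 2) F →* G) (hf : Function.Injective f) (p : ℕ) [Fact p.Prime]
    [CharP F p] {m : ℕ}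
    (hm : m ∣ p ∨ m ∣ (Fintype.card F - 1) / Nat.gcd 2 (Fintype.card F - 1) ∨
      m ∣ (Fintype.card F + 1) / Nat.gcd 2 (Fintype.card F - 1)) : okN m = true ∧ m ≤ 285 := by
  obtain ⟨g, hg⟩ := (Cfsg.Lib.GLTwo.psl_spectrum p m).2 hm
  exact ⟨(S.of_injective f hf).ok (g := g) hg.symm.dvd, hg ▸ (S.of_injective f hf).order_le g⟩

/-- The odd fields. -/
theorem odd_field {G : Type u} [Group G] (S : Shape G) {F : Type} [Field F] [Fintype F]
    (f : Matrix.ProjectiveSpecialLinearGroup (Fin 2) F →* G) (hf : Function.Injective f)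
    (h5 : 5 ≤ Fintype.card F) (h8 : Fintype.card F % 8 = 3 ∨ Fintype.card F % 8 = 5) :
    Fintype.card F = 5 ∨ Fintype.card F = 11 := by
  obtain ⟨p, hp⟩ := CharP.exists F
  haveI : Fact p.Prime := ⟨CharP.char_is_prime F p⟩
  obtain ⟨k, hpp, hk⟩ := FiniteField.card F p
  obtain ⟨q, hq⟩ : ∃ q, Fintype.card F = q := ⟨_, rfl⟩
  have hgcd : Nat.gcd 2 (q - 1) = 2 := Nat.gcd_eq_left (by rw [hq] at h8; omega)
  have h1 := spectrum_mem S f hf p (m := (q - 1) / 2) (Or.inr (Or.inl (by rw [hq, hgcd])))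
  have h2 := spectrum_mem S f hf p (m := (q + 1) / 2) (Or.inr (Or.inr (by rw [hq, hgcd])))
  obtain ⟨g, hg⟩ := (Cfsg.Lib.GLTwo.psl_spectrum (F := F) p p).2 (Or.inl dvd_rfl)
  have h3 := (S.of_injective f hf).prime_mem (g := g) hpp hg.symm.dvd
  rw [hq] at hk h5 h8 ⊢
  have hqle : q ≤ 569 := by omega
  simp only [List.mem_cons, List.not_mem_nil, or_false] at h3
  have key : ∀ p ∈ ([2, 3, 5, 7, 11, 19] : List ℕ), ∀ k ∈ List.range 10, p ^ k ≤ 569 → 5 ≤ p ^ k →
      (p ^ k % 8 = 3 ∨ p ^ k % 8 = 5) → okN ((p ^ k - 1) / 2) = true → okN ((p ^ k + 1) / 2) = true →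
        p ^ k = 5 ∨ p ^ k = 11 := by decide +kernel
  have hk10 : (k : ℕ) < 10 := by
    by_contra h
    have : 2 ^ 10 ≤ q := hk ▸ (Nat.pow_le_pow_right two_pos (not_lt.1 h)).trans (Nat.pow_le_pow_left hpp.two_le _)
    omega
  subst hk
  exact key p (by simpa using h3) k (List.mem_range.2 hk10) hqle h5 h8 h1.1 h2.1

/-- A simple nonabelian group with the shape is small or a Janko group. -/
theorem kind {T : Type u} [Group T] [Finite T] [IsSimpleGroup T] (S : Shape T) (hna : ¬ IsMulCommutative T) :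
    IsSmall T ∨ Nonempty (T ≃* Cfsg.Lib.Janko.J) := by
  rcases Walter.walterProp T hna S.abTwo with ⟨F, iF, iT, ⟨m, hm, hF⟩, ⟨e⟩⟩ | ⟨F, iF, iT, h8, h5, ⟨e⟩⟩ | hJR
  · left
    haveI : Fact (Nat.Prime 2) := ⟨Nat.prime_two⟩
    haveI : CharP F 2 := ringChar.eq_iff.1 (FiniteField.even_card_iff_char_two.2 (by
      rw [hF, Nat.pow_mod, Nat.mod_self, zero_pow (by omega), Nat.zero_mod]))
    have hgcd : Nat.gcd 2 (2 ^ m - 1) = 1 := (Nat.coprime_two_left).2 (Nat.Even.sub_odd Nat.one_le_two_pow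
      (Nat.even_pow.2 ⟨even_two, by omega⟩) odd_one)
    have h1 := spectrum_mem S e.symm.toMonoidHom e.symm.injective 2 (m := 2 ^ m - 1)
      (Or.inr (Or.inl (by rw [hF, hgcd, Nat.div_one])))
    have h2 := spectrum_mem S e.symm.toMonoidHom e.symm.injective 2 (m := 2 ^ m + 1)
      (Or.inr (Or.inr (by rw [hF, hgcd, Nat.div_one])))
    have key : ∀ m ∈ List.range 9, 2 ≤ m → okN (2 ^ m - 1) = true → okN (2 ^ m + 1) = true → m = 2 := by
      decide +kernel
    have hm9 : m < 9 := by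
      by_contra h
      have := Nat.pow_le_pow_right (n := 2) two_pos (not_lt.1 h)
      omega
    obtain rfl := key m (List.mem_range.2 hm9) hm h1.1 h2.1
    haveI : Fact (Nat.Prime 5) := ⟨by norm_num⟩
    obtain ⟨g₄⟩ := Cfsg.Agent.S0252.result (F := F) (by rw [hF]; norm_num)
    obtain ⟨g₅⟩ := Cfsg.Agent.S0253.result (F := ZMod 5) (ZMod.card 5)
    exact ⟨ZMod 5, inferInstance, inferInstance, Or.inl (ZMod.card 5), ⟨(e.trans g₄).trans g₅.symm⟩⟩
  · exact Or.inl ⟨F, iF, iT, odd_field S e.symm.toMonoidHom e.symm.injective (by omega) (by omega), ⟨e⟩⟩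
  · right
    obtain ⟨h8c, t, E, E₀, F, iF, iT, h5, h8, hH⟩ := hJR
    have Js : Ree.Field.JRSetting t E E₀ F := ⟨inferInstance, hna, S.abTwo, h8c, hH, h5, h8⟩
    obtain ⟨eC⟩ := Ree.Field.centralizer_iso Js (Ree.Field.noFieldProp T t E E₀ F Js)
    have hq := odd_field S ((centralizer ({t} : Set T)).subtype.comp (eC.symm.toMonoidHom.comp
      (MonoidHom.inr (Multiplicative (ZMod 2)) _))) ((centralizer ({t} : Set T)).subtype_injective.comp
      (eC.symm.injective.comp (fun a b h => congrArg Prod.snd h))) h5 h8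
    have hab : ∀ P : Sylow 2 T, ∀ a b : P, a * b = b * a := fun P a b =>
      Subtype.ext (S.two_comm P.2 a.2 b.2).eq
    rcases Cfsg.Agent.S0343.result hab (by omega : 3 ≤ Fintype.card F) t hH.ord ⟨eC⟩ with
      ⟨m, hm, hm', -⟩ | ⟨hq45, -⟩
    · exfalso
      have : 3 ^ 3 ≤ 3 ^ (2 * m + 1) := Nat.pow_le_pow_right (by norm_num) (by omega)
      omega
    obtain ⟨g⟩ := Cfsg.Agent.S0253.result (F := F) (by omega)
    obtain ⟨P⟩ := (inferInstance : Nonempty (Sylow 2 T))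
    exact Cfsg.Agent.S1644.result P ⟨⟨hab P⟩⟩ (h8c P) t hH.ord
      (eC.trans ((MulEquiv.refl _).prodCongr g))

namespace IsSmall

variable {T : Type u} [Group T] [Finite T]

theorem card (h : IsSmall T) : ∃ r n : ℕ, r.Prime ∧ (r = 5 ∧ n = 6 ∧ Nat.card T = 60 ∨
    r = 11 ∧ n = 12 ∧ Nat.card T = 660) ∧ Nat.card (MulAut T) = 2 * Nat.card T := by
  obtain ⟨F, iF, iT, hq, ⟨e⟩⟩ := h
  have hc : ∀ q, Fintype.card F = q → q.Prime → 4 ≤ q → Nat.gcd 2 (q - 1) = 2 →
      2 * Nat.card T = q * (q ^ 2 - 1) ∧ Nat.card (MulAut T) = 2 * Nat.card T := by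
    intro q hF hp h4 hg
    have h1 := Cfsg.Lib.Classical.SmallPSL.card_psl hF
    rw [hg, ← Nat.card_congr e.toEquiv] at h1
    refine ⟨h1, ?_⟩
    rw [Nat.card_congr (MulAut.congr e).toEquiv, Cfsg.Lib.CITExt.aut_card_psl_prime hp h4 hF, h1]
  rcases hq with hF | hF
  · obtain ⟨h1, h2⟩ := hc 5 hF (by norm_num) (by norm_num) rfl
    exact ⟨5, 6, by norm_num, Or.inl ⟨rfl, rfl, by norm_num at h1; omega⟩, h2⟩
  · obtain ⟨h1, h2⟩ := hc 11 hF (by norm_num) (by norm_num) rfl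
    exact ⟨11, 12, by norm_num, Or.inr ⟨rfl, rfl, by norm_num at h1; omega⟩, h2⟩

theorem card_dvd (h : IsSmall T) : Nat.card T ∣ 660 ∧ 4 ∣ Nat.card T ∧ Nat.card (MulAut T) = 2 * Nat.card T := by
  obtain ⟨r, n, -, hc, ha⟩ := h.card
  refine ⟨?_, ?_, ha⟩ <;> rcases hc with ⟨-, -, e⟩ | ⟨-, -, e⟩ <;> rw [e] <;> norm_num

theorem order_coprime (h : IsSmall T) {t : T} (ht : (orderOf t).Coprime 6) :
    orderOf t = 1 ∨ orderOf t = 5 ∨ orderOf t = 11 := by
  obtain ⟨F, iF, iT, hq, ⟨e⟩⟩ := h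
  obtain ⟨p, hp⟩ := CharP.exists F
  haveI : Fact p.Prime := ⟨CharP.char_is_prime F p⟩
  obtain ⟨k, hpp, hk⟩ := FiniteField.card F p
  have hp' : p = Fintype.card F := by
    rcases hq with h5 | h5 <;> rw [h5] <;> rw [h5] at hk <;>
      exact (Nat.prime_dvd_prime_iff_eq hpp (by norm_num)).1 (hk ▸ dvd_pow_self p k.pos.ne')
  have hm := (Cfsg.Lib.GLTwo.psl_spectrum (F := F) p (orderOf t)).1 ⟨e t, MulEquiv.orderOf_eq e t⟩
  have key : ∀ q ∈ ([5, 11] : List ℕ), ∀ m ∈ List.range 12, m.Coprime 6 →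
      (m ∣ q ∨ m ∣ (q - 1) / Nat.gcd 2 (q - 1) ∨ m ∣ (q + 1) / Nat.gcd 2 (q - 1)) → m = 1 ∨ m = 5 ∨ m = 11 := by
    decide +kernel
  have hq' : Fintype.card F ∈ ([5, 11] : List ℕ) := by simpa using hq
  rw [hp'] at hm
  refine key _ hq' _ (List.mem_range.2 ?_) ht hm
  rcases hm with h | h | h <;> rcases hq with h5 | h5 <;> rw [h5] at h <;>
    exact lt_of_le_of_lt (Nat.le_of_dvd (by decide) h) (by decide)

theorem not_comm (h : IsSmall T) [IsSimpleGroup T] : ∃ a b : T, a * b ≠ b * a := by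
  by_contra hc
  push Not at hc
  haveI : IsMulCommutative T := ⟨⟨hc⟩⟩
  letI : CommGroup T := { (inferInstance : Group T) with mul_comm := hc }
  have hp : (Nat.card T).Prime := IsSimpleGroup.prime_card
  obtain ⟨r, n, -, hcard, -⟩ := h.card
  rcases hcard with ⟨-, -, e⟩ | ⟨-, -, e⟩ <;> rw [e] at hp <;> norm_num at hp

/-- An automorphism of odd order is inner. -/
theorem inner_of_odd (h : IsSmall T) [IsSimpleGroup T] (φ : MulAut T) (hφ : Odd (orderOf φ)) :
    ∃ c : T, φ = MulAut.conj c := by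
  set I := (MulAut.conj : T →* MulAut T).range with hI
  have hinj : Function.Injective (MulAut.conj : T →* MulAut T) := by
    refine (injective_iff_map_eq_one _).2 fun z hz => ?_
    obtain ⟨a, b, hab⟩ := h.not_comm
    rcases (inferInstance : (center T).Normal).eq_bot_or_eq_top with e | e
    · refine (Subgroup.eq_bot_iff_forall _).1 e z (mem_center_iff.2 fun g => ?_)
      exact ((mul_inv_eq_iff_eq_mul.1 (DFunLike.congr_fun hz g : z * g * z⁻¹ = g))).symm
    · exact absurd (mem_center_iff.1 (e ▸ mem_top b) a) hab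
  haveI : Finite (MulAut T) := Finite.of_injective (fun φ => (φ : T → T)) DFunLike.coe_injective
  have hidx : I.index = 2 := by
    have h1 := I.card_mul_index
    rw [hI, ← Nat.card_congr (MonoidHom.ofInjective hinj).toEquiv, h.card_dvd.2.2] at h1
    rw [mul_comm 2] at h1
    exact Nat.eq_of_mul_eq_mul_left Nat.card_pos h1
  obtain ⟨k, hk⟩ := hφ
  have h2 : φ ^ 2 ∈ I := Subgroup.sq_mem_of_index_two hidx φ
  have h3 : φ ∈ I := by
    have h4 := I.inv_mem (I.pow_mem h2 k)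
    rw [← pow_mul] at h4
    have h5 : (φ ^ (2 * k))⁻¹ = φ := inv_eq_of_mul_eq_one_right (by rw [← pow_succ, ← hk, pow_orderOf_eq_one])
    rwa [h5] at h4
  obtain ⟨c, hc⟩ := h3
  exact ⟨c, hc.symm⟩

/-- The Sylow subgroups for the largest prime. -/
theorem sylow_facts (h : IsSmall T) [IsSimpleGroup T] : ∃ (r : ℕ) (_ : Fact r.Prime),
    Nat.card (Sylow r T) ∣ 12 ∧ ∀ P : Sylow r T, Group.IsSolvable (normalizer ((P : Subgroup T) : Set T)) := by
  obtain ⟨a, b, hab⟩ := h.not_comm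
  obtain ⟨r, n, hr, hc, -⟩ := h.card
  haveI := Fact.mk hr
  refine ⟨r, inferInstance, ?_⟩
  obtain ⟨P⟩ := (inferInstance : Nonempty (Sylow r T))
  obtain ⟨m, hm, hrm⟩ : ∃ m, Nat.card T = r * m ∧ ¬ r ∣ m := by
    rcases hc with ⟨rfl, -, e⟩ | ⟨rfl, -, e⟩
    · exact ⟨12, by rw [e], by norm_num⟩
    · exact ⟨60, by rw [e], by norm_num⟩
  have hP : ∀ P : Sylow r T, Nat.card (P : Subgroup T) = r := fun P => by
    rw [P.card_eq_multiplicity, hm, Nat.factorization_mul hr.ne_zero (show m ≠ 0 from fun e => hrm (by rw [e]; exact dvd_zero r)),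
      Finsupp.add_apply, hr.factorization_self, Nat.factorization_eq_zero_of_not_dvd hrm, add_zero, pow_one]
  have hidx : ∀ P : Sylow r T, (P : Subgroup T).index = m := fun P => by
    have h1 := (P : Subgroup T).card_mul_index
    rw [hP P, hm] at h1
    exact Nat.eq_of_mul_eq_mul_left hr.pos h1
  have hn : Nat.card (Sylow r T) = n := by
    have h1 := P.card_dvd_index
    rw [hidx P] at h1
    have h2 : Nat.card (Sylow r T) % r = 1 % r := card_sylow_modEq_one r T
    have h3 : Nat.card (Sylow r T) ≠ 1 := fun e => by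
      haveI := (Nat.card_eq_one_iff_unique.1 e).1
      have hnorm : normalizer ((P : Subgroup T) : Set T) = ⊤ := by
        refine index_eq_one.1 ?_
        exact (show (normalizer ((P : Subgroup T) : Set T)).index = Nat.card (Sylow r T) from
          P.card_eq_index_normalizer.symm).trans e
      haveI : (P : Subgroup T).Normal := normalizer_eq_top_iff.1 hnorm
      rcases (inferInstance : (P : Subgroup T).Normal).eq_bot_or_eq_top with hb | ht
      · have := hP P
        rw [hb, card_bot] at this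
        exact hr.ne_one this.symm
      · have := hP P
        rw [ht, card_top, hm] at this
        rcases hc with ⟨rfl, -, e⟩ | ⟨rfl, -, e⟩ <;> omega
    have hm' : m = 12 ∧ r = 5 ∧ n = 6 ∨ m = 60 ∧ r = 11 ∧ n = 12 := by
      rcases hc with ⟨rfl, rfl, e⟩ | ⟨rfl, rfl, e⟩ <;> omega
    have key : ∀ d, (d ∣ 12 → d % 5 = 1 → d ≠ 1 → d = 6) ∧ (d ∣ 60 → d % 11 = 1 → d ≠ 1 → d = 12) := by
      have k1 : ∀ d ∈ (12 : ℕ).divisors, d % 5 = 1 → d ≠ 1 → d = 6 := by decide +kernel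
      have k2 : ∀ d ∈ (60 : ℕ).divisors, d % 11 = 1 → d ≠ 1 → d = 12 := by decide +kernel
      exact fun d => ⟨fun hd => k1 d (Nat.mem_divisors.2 ⟨hd, by norm_num⟩),
        fun hd => k2 d (Nat.mem_divisors.2 ⟨hd, by norm_num⟩)⟩
    rcases hm' with ⟨rfl, rfl, rfl⟩ | ⟨rfl, rfl, rfl⟩
    · exact (key _).1 h1 h2 h3
    · exact (key _).2 h1 h2 h3
  refine ⟨by rw [hn]; rcases hc with ⟨-, rfl, -⟩ | ⟨-, rfl, -⟩ <;> norm_num, fun Q => ?_⟩
  set N := normalizer ((Q : Subgroup T) : Set T) with hN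
  obtain ⟨s, hs, hsc⟩ : ∃ s : ℕ, s.Prime ∧ Nat.card N = r * s := by
    have h1 := N.card_mul_index
    rw [show N.index = Nat.card (Sylow r T) from Q.card_eq_index_normalizer.symm, hn, hm] at h1
    rcases hc with ⟨rfl, rfl, e⟩ | ⟨rfl, rfl, e⟩
    · exact ⟨2, Nat.prime_two, by omega⟩
    · exact ⟨5, by norm_num, by omega⟩
  haveI := Fact.mk hs
  set Q' := (Q : Subgroup T).subgroupOf N with hQ'
  haveI : Q'.Normal := normal_in_normalizer
  have hQc : Nat.card Q' = r := by rw [hQ', Nat.card_congr (subgroupOfEquivOfLe le_normalizer).toEquiv, hP Q]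
  haveI : IsCyclic Q' := isCyclic_of_prime_card hQc
  haveI : IsCyclic (N ⧸ Q') := isCyclic_of_prime_card (p := s) (by
    have h1 := card_eq_card_quotient_mul_card_subgroup Q'
    rw [hsc, hQc, mul_comm r] at h1
    exact (Nat.eq_of_mul_eq_mul_right hr.pos h1).symm)
  haveI : Group.IsSolvable Q' := Group.isSolvable_of_comm (IsCyclic.commGroup).mul_comm
  haveI : Group.IsSolvable (N ⧸ Q') := Group.isSolvable_of_comm (IsCyclic.commGroup).mul_comm
  exact Group.isSolvable_of_ker_le_range Q'.subtype (QuotientGroup.mk' Q') (by rw [QuotientGroup.ker_mk', range_subtype])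

end IsSmall

end Cfsg.Lib.JankoSquare
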