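import Mathlib
import Cfsg.Agent.Subdirect.SimplePower

/-!
Automorphisms of powers of a nonabelian simple group and fixed product subgroups.
-/

set_option autoImplicit false
set_option linter.unusedSectionVars false

namespace Cfsg.Lib.JankoSquare

open Subgroup Cfsg.Lib.SimplePower

universe u w

variable {ι : Type w} {T : Type u} [Fintype ι] [DecidableEq ι] [Group T] [Finite T] [IsSimpleGroup T]
  (hT : ∃ a b : T, a * b ≠ b * a)

/-- The permutation of the coordinates induced by an automorphism. -/
noncomputable def perm (f : MulAut (ι → T)) : Equiv.Perm ι := (exists_perm hT f).choose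

theorem perm_spec (f : MulAut (ι → T)) (i : ι) (x : ι → T) : f x (perm hT f i) = 1 ↔ x i = 1 :=
  ((exists_perm hT f).choose_spec i).1 x

include hT in
theorem perm_unique {f : MulAut (ι → T)} {i j : ι} (h : ∀ x, f x j = 1 ↔ x i = 1) : perm hT f i = j := by
  obtain ⟨a, b, hab⟩ := id hT
  have ha : a ≠ 1 := fun e => hab (by rw [e, one_mul, mul_one])
  obtain ⟨x, hx⟩ : ∃ x, f x = Pi.mulSingle j a := f.surjective _
  by_contra hne
  have h1 : x i = 1 := (perm_spec hT f i x).1 (by rw [hx]; exact Pi.mulSingle_eq_of_ne (M := fun _ => T) hne a)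
  have h2 := (h x).2 h1
  rw [hx, Pi.mulSingle_eq_same] at h2
  exact ha h2

theorem perm_one : perm hT (1 : MulAut (ι → T)) = 1 :=
  Equiv.ext fun i => perm_unique hT (f := 1) (j := i) fun _ => Iff.rfl

theorem perm_mul (f g : MulAut (ι → T)) : perm hT (f * g) = perm hT f * perm hT g :=
  Equiv.ext fun i => perm_unique hT fun x => (perm_spec hT f (perm hT g i) (g x)).trans (perm_spec hT g i x)

/-- The permutation action. -/
noncomputable def permHom : MulAut (ι → T) →* Equiv.Perm ι :=
  { toFun := perm hT, map_one' := perm_one hT, map_mul' := perm_mul hT }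

theorem permHom_apply (f : MulAut (ι → T)) : permHom hT f = perm hT f := rfl

/-- The component of an automorphism at a coordinate. -/
noncomputable def comp (f : MulAut (ι → T)) (i : ι) : T ≃* T :=
  MulEquiv.ofBijective
    ({ toFun := fun t => f (Pi.mulSingle i t) (perm hT f i)
       map_one' := by rw [Pi.mulSingle_one, map_one]; rfl
       map_mul' := fun a b => by rw [Pi.mulSingle_mul, map_mul]; rfl } : T →* T)
    (Finite.injective_iff_bijective.1 ((injective_iff_map_eq_one _).2 fun t ht => by
      have := (perm_spec hT f i (Pi.mulSingle i t)).1 ht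
      rwa [Pi.mulSingle_eq_same] at this))

theorem comp_apply (f : MulAut (ι → T)) (i : ι) (x : ι → T) : f x (perm hT f i) = comp hT f i (x i) := by
  have h1 : f (x * (Pi.mulSingle i (x i))⁻¹) (perm hT f i) = 1 := (perm_spec hT f i _).2 (by simp)
  rw [map_mul, map_inv, Pi.mul_apply, Pi.inv_apply, mul_inv_eq_one] at h1
  exact h1

theorem comp_mul (f g : MulAut (ι → T)) (i : ι) (t : T) :
    comp hT (f * g) i t = comp hT f (perm hT g i) (comp hT g i t) := by
  have h1 := comp_apply hT (f * g) i (Pi.mulSingle i t)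
  rw [Pi.mulSingle_eq_same, perm_mul] at h1
  rw [← h1]
  show f (g (Pi.mulSingle i t)) (perm hT f (perm hT g i)) = _
  rw [comp_apply hT f, comp_apply hT g i, Pi.mulSingle_eq_same]

/-- The component at a fixed coordinate. -/
noncomputable def stabHom (i : ι) :
    ((MulAction.stabilizer (Equiv.Perm ι) i).comap (permHom (ι := ι) hT)) →* MulAut T :=
  MonoidHom.mk' (fun f => comp hT f.1 i) fun f g => MulEquiv.ext fun t => by
    have hg : perm hT (g : MulAut (ι → T)) i = i := g.2
    show comp hT (f.1 * g.1) i t = comp hT f.1 i (comp hT g.1 i t)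
    rw [comp_mul, hg]

include hT in
/-- An automorphism moves a product of copies of `P` to a conjugate. -/
theorem exists_product_conj (P : Subgroup T)
    (hauto : ∀ γ : MulAut T, ∃ n : T, P.map γ.toMonoidHom = P.map (MulAut.conj n).toMonoidHom) (f : MulAut (ι → T)) :
    ∃ n : ι → T, (Subgroup.pi Set.univ fun _ : ι => P).map f.toMonoidHom =
      (Subgroup.pi Set.univ fun _ : ι => P).map (MulAut.conj n).toMonoidHom := by
  choose m hm using fun i => hauto (comp hT f i)
  refine ⟨fun j => m ((perm hT f).symm j), le_antisymm ?_ ?_⟩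
  · rintro _ ⟨x, hx, rfl⟩
    rw [mem_map_equiv]
    intro j _
    obtain ⟨i, rfl⟩ := (perm hT f).surjective j
    obtain ⟨y, hy, e⟩ := (hm i ▸ ⟨x i, hx i (Set.mem_univ i), rfl⟩ : comp hT f i (x i) ∈ P.map (MulAut.conj (m i)).toMonoidHom)
    show (m ((perm hT f).symm (perm hT f i)))⁻¹ * f x (perm hT f i) * m ((perm hT f).symm (perm hT f i)) ∈ P
    rw [Equiv.symm_apply_apply, comp_apply, ← e]
    simpa [mul_assoc] using hy
  · rintro _ ⟨x, hx, rfl⟩
    rw [mem_map_equiv]
    intro i _
    obtain ⟨y, hy, e⟩ := ((hm i).symm ▸ ⟨x (perm hT f i), hx _ (Set.mem_univ _), rfl⟩ :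
      MulAut.conj (m i) (x (perm hT f i)) ∈ P.map (comp hT f i).toMonoidHom)
    set w := f.symm (MulAut.conj (fun j => m ((perm hT f).symm j)) x) with hw
    have h1 := comp_apply hT f i w
    rw [hw, MulEquiv.apply_symm_apply] at h1
    simp only [MulAut.conj_apply, Pi.mul_apply, Pi.inv_apply, Equiv.symm_apply_apply] at h1
    have h2 : y = f.symm (MulAut.conj (fun j => m ((perm hT f).symm j)) x) i := (comp hT f i).injective (e.trans h1)
    exact (h2 ▸ hy : _)

include hT in
/-- A cyclic group of automorphisms fixes a product of conjugates if the stabilisers do. -/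
theorem exists_fixed_product (f : MulAut (ι → T)) (P : Subgroup T)
    (hauto : ∀ γ : MulAut T, ∃ n : T, P.map γ.toMonoidHom = P.map (MulAut.conj n).toMonoidHom)
    (hfix : ∀ β : MulAut T, orderOf β ∣ orderOf f → ∃ c : T, (P.map (MulAut.conj c).toMonoidHom).map β.toMonoidHom =
      P.map (MulAut.conj c).toMonoidHom) :
    ∃ n : ι → T, ∀ x ∈ (Subgroup.pi Set.univ fun _ : ι => P).map (MulAut.conj n).toMonoidHom,
      f x ∈ (Subgroup.pi Set.univ fun _ : ι => P).map (MulAut.conj n).toMonoidHom := by
  classical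
  haveI : Finite (ι → T) := inferInstance
  haveI : Finite (MulAut (ι → T)) := Finite.of_injective (fun φ => (φ : (ι → T) → (ι → T))) DFunLike.coe_injective
  have hstab : ∀ i : ι, ∃ c : T, ∀ g ∈ zpowers f, perm hT g i = i →
      (P.map (MulAut.conj c).toMonoidHom).map (comp hT g i).toMonoidHom = P.map (MulAut.conj c).toMonoidHom := by
    intro i
    set Z := zpowers f ⊓ (MulAction.stabilizer (Equiv.Perm ι) i).comap (permHom (ι := ι) hT) with hZ
    haveI : IsCyclic Z := by
      exact isCyclic_of_injective (inclusion (inf_le_left : Z ≤ zpowers f)) (inclusion_injective _)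
    obtain ⟨g₀, hg₀⟩ := IsCyclic.exists_generator (α := Z)
    let β := stabHom hT i ⟨g₀.1, g₀.2.2⟩
    have hd : orderOf β ∣ orderOf f := by
      refine (orderOf_map_dvd (stabHom hT i) _).trans ?_
      rw [Subgroup.orderOf_mk]
      exact orderOf_dvd_of_mem_zpowers g₀.2.1
    obtain ⟨c, hc⟩ := hfix β hd
    refine ⟨c, fun g hg hgi => ?_⟩
    let Q := P.map (MulAut.conj c).toMonoidHom
    let A : Subgroup (MulAut T) :=
      { carrier := {γ | Q.map γ.toMonoidHom = Q}
        one_mem' := Subgroup.map_id Q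
        mul_mem' := fun {a b} ha hb => by
          show Q.map (a * b).toMonoidHom = Q
          rw [show (a * b).toMonoidHom = a.toMonoidHom.comp b.toMonoidHom from rfl, ← Subgroup.map_map,
            show Q.map b.toMonoidHom = Q from hb, show Q.map a.toMonoidHom = Q from ha]
        inv_mem' := fun {a} ha => by
          show Q.map a⁻¹.toMonoidHom = Q
          conv_lhs => rw [← (show Q.map a.toMonoidHom = Q from ha)]
          rw [Subgroup.map_map, show a⁻¹.toMonoidHom.comp a.toMonoidHom = MonoidHom.id T from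
            MonoidHom.ext fun t => a.symm_apply_apply t, Subgroup.map_id] }
    obtain ⟨k, hk⟩ := mem_zpowers_iff.1 (hg₀ ⟨g, hg, hgi⟩)
    have h1 : stabHom hT i ⟨g, hgi⟩ = β ^ k := by
      rw [← map_zpow]
      exact congrArg (stabHom hT i) (Subtype.ext (congrArg Subtype.val hk).symm)
    have h2 : stabHom hT i ⟨g, hgi⟩ ∈ A := h1 ▸ A.zpow_mem hc k
    exact h2
  choose c hc using hstab
  let σ := perm hT f
  have hzp : ∀ k : ℤ, perm hT (f ^ k) = σ ^ k := fun k => map_zpow (permHom hT) f k
  let st : Setoid ι := ⟨σ.SameCycle, Equiv.Perm.SameCycle.equivalence σ⟩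
  let rep : ι → ι := fun i => (Quotient.mk st i).out
  have hrep : ∀ i, σ.SameCycle (rep i) i := fun i => Quotient.exact (Quotient.out_eq (Quotient.mk st i))
  have hrep' : ∀ {i j}, σ.SameCycle i j → rep i = rep j := fun {i j} h => by
    show (Quotient.mk st i).out = (Quotient.mk st j).out
    rw [Quotient.sound (s := st) h]
  choose k hk using hrep
  let s : ι → T := fun j => comp hT (f ^ k j) (rep j) (c (rep j))
  let Qi : ι → Subgroup T := fun j => (P.map (MulAut.conj (c (rep j))).toMonoidHom).map (comp hT (f ^ k j) (rep j)).toMonoidHom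
  have hQ : ∀ (g : MulAut (ι → T)), g ∈ zpowers f → ∀ j, perm hT g (rep j) = j →
      (P.map (MulAut.conj (c (rep j))).toMonoidHom).map (comp hT g (rep j)).toMonoidHom = Qi j := by
    intro g hg j hj
    have hkj : perm hT (f ^ k j) (rep j) = j := by rw [hzp]; exact hk j
    set d := (f ^ k j)⁻¹ * g with hd
    have hdi : perm hT d (rep j) = rep j := by
      rw [hd, ← permHom_apply, map_mul, map_inv, permHom_apply, permHom_apply, Equiv.Perm.mul_apply, hj]
      exact Equiv.Perm.inv_eq_iff_eq.2 hkj.symm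
    have h1 := hc (rep j) d ((zpowers f).mul_mem ((zpowers f).inv_mem (zpow_mem (mem_zpowers f) _)) hg) hdi
    show _ = (P.map (MulAut.conj (c (rep j))).toMonoidHom).map (comp hT (f ^ k j) (rep j)).toMonoidHom
    conv_rhs => rw [← h1, Subgroup.map_map]
    congr 1
    refine MonoidHom.ext fun t => ?_
    show comp hT g (rep j) t = comp hT (f ^ k j) (rep j) (comp hT d (rep j) t)
    have := comp_mul hT (f ^ k j) d (rep j) t
    rw [hdi, hd, mul_inv_cancel_left] at this
    exact this
  -- the twisting element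
  have hconj : ∀ (γ : MulAut T) (a : T), (P.map (MulAut.conj a).toMonoidHom).map γ.toMonoidHom =
      (P.map γ.toMonoidHom).map (MulAut.conj (γ a)).toMonoidHom := fun γ a => by
    rw [Subgroup.map_map, Subgroup.map_map]
    congr 1
    refine MonoidHom.ext fun t => ?_
    show γ (a * t * a⁻¹) = γ a * γ t * (γ a)⁻¹
    rw [map_mul, map_mul, map_inv]
  have hPconj : ∀ j, ∃ n : T, Qi j = P.map (MulAut.conj n).toMonoidHom := by
    intro j
    obtain ⟨n, hn⟩ := hauto (comp hT (f ^ k j) (rep j))
    refine ⟨s j * n, ?_⟩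
    show (P.map (MulAut.conj (c (rep j))).toMonoidHom).map _ = _
    rw [hconj, hn, Subgroup.map_map]
    congr 1
    refine MonoidHom.ext fun t => ?_
    simp [s, mul_assoc]
  choose n hn using hPconj
  refine ⟨n, ?_⟩
  have hmem : ∀ x, x ∈ (Subgroup.pi Set.univ fun _ : ι => P).map (MulAut.conj n).toMonoidHom ↔ ∀ j, x j ∈ Qi j := by
    intro x
    simp only [hn, mem_map_equiv, Subgroup.mem_pi, Set.mem_univ, true_implies]
    exact Iff.rfl
  intro x hx
  rw [hmem] at hx ⊢
  intro j
  obtain ⟨i, rfl⟩ := σ.surjective j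
  rw [comp_apply]
  have hsame : rep (σ i) = rep i := hrep' (Equiv.Perm.SameCycle.symm ⟨1, by rw [zpow_one]⟩)
  rw [← hQ (f * f ^ k i) ((zpowers f).mul_mem (mem_zpowers f) (zpow_mem (mem_zpowers f) _)) (σ i) (by
    rw [hsame, perm_mul, Equiv.Perm.mul_apply, hzp]
    exact congrArg σ (hk i))]
  obtain ⟨t, ht, e⟩ := hx i
  rw [hsame]
  refine ⟨t, ht, ?_⟩
  show comp hT (f * f ^ k i) (rep i) t = comp hT f i (x i)
  rw [comp_mul, hzp, show (σ ^ k i) (rep i) = i from hk i]
  exact congrArg _ e

end Cfsg.Lib.JankoSquare
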