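import Mathlib
import Cfsg.Agent.S0721
import Cfsg.Agent.Coprime.Hall
import Cfsg.Agent.SuzSquare.Socle
import Cfsg.Agent.SolvStruct.FourPrimes.Main
import Cfsg.Agent.JankoSquare.Tools
import Cfsg.Agent.JankoSquare.Kinds
import Cfsg.Agent.JankoSquare.Perm

/-!
A group with the orders of the square has a section isomorphic to the first Janko group.
-/

set_option autoImplicit false
set_option linter.unusedSectionVars false

namespace Cfsg.Lib.JankoSquare

open Subgroup Cfsg.Lib.Janko

universe u v

/-- No subgroup maps onto the first Janko group. -/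
def JFree (X : Type u) [Group X] : Prop := ∀ (K : Subgroup X) (f : K →* J), ¬ Function.Surjective f

namespace JFree

variable {X : Type u} [Group X]

theorem of_injective (h : JFree X) {Y : Type v} [Group Y] (g : Y →* X) (hg : Function.Injective g) : JFree Y :=
  fun K f hf => h (K.map g) (f.comp (equivMapOfInjective K g hg).symm.toMonoidHom)
    (hf.comp (equivMapOfInjective K g hg).symm.surjective)

theorem of_surjective (h : JFree X) {Y : Type v} [Group Y] (g : X →* Y) (hg : Function.Surjective g) : JFree Y :=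
  fun K f hf => h (K.comap g) (f.comp ((g.comp (K.comap g).subtype).codRestrict K fun x => x.2)) fun y => by
    obtain ⟨k, rfl⟩ := hf y
    obtain ⟨x, hx⟩ := hg k
    exact ⟨⟨x, show g x ∈ K by rw [hx]; exact k.2⟩, congrArg f (Subtype.ext hx)⟩

/-- Extensions of free groups are free. -/
theorem extension {Y : Type v} [Group Y] (g : X →* Y) (hk : JFree g.ker) (h : JFree g.range) : JFree X := by
  intro K f hf
  haveI := janko_simple
  set M := g.ker.subgroupOf K with hM
  have hn : (M.map f).Normal := Subgroup.Normal.map inferInstance f hf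
  rcases hn.eq_bot_or_eq_top with e | e
  · have hle : M ≤ f.ker := (map_eq_bot_iff M).1 e
    let q : K →* (K.map g).subgroupOf g.range :=
      ((g.rangeRestrict).comp K.subtype).codRestrict _ fun x => ⟨x, x.2, rfl⟩
    have hq : Function.Surjective q := by
      rintro ⟨⟨y, hy⟩, ⟨x, hx, hxy⟩⟩
      exact ⟨⟨x, hx⟩, Subtype.ext (Subtype.ext hxy)⟩
    have hkq : q.ker ≤ f.ker := fun x hx => hle (show g (x : X) = 1 from
      congrArg (fun z : (K.map g).subgroupOf g.range => (((z : g.range)) : Y)) (MonoidHom.mem_ker.1 hx))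
    refine h ((K.map g).subgroupOf g.range) (q.liftOfSurjective hq ⟨f, hkq⟩) fun y => ?_
    obtain ⟨x, rfl⟩ := hf y
    exact ⟨q x, MonoidHom.liftOfRightInverse_comp_apply _ _ _ _ x⟩
  · refine hk (K.subgroupOf g.ker) (f.comp ((g.ker.subtype.comp (K.subgroupOf g.ker).subtype).codRestrict
      K fun x => x.2)) fun y => ?_
    obtain ⟨x, hx, rfl⟩ := (e.symm ▸ mem_top y : y ∈ M.map f)
    exact ⟨⟨⟨(x : X), hx⟩, x.2⟩, congrArg f (Subtype.ext rfl)⟩

theorem of_not_dvd [Finite X] {p : ℕ} (hp : p ∣ 175560) (h : ¬ p ∣ Nat.card X) : JFree X := fun K f hf =>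
  h ((hp.trans ((card_J.symm ▸ card_dvd_of_surjective f hf : 175560 ∣ Nat.card K))).trans K.card_subgroup_dvd_card)

theorem of_solvable [Group.IsSolvable X] : JFree X := fun _ _ hf =>
  janko_not_solvable (Group.isSolvable_of_surjective hf)

theorem not_janko : ¬ JFree J := fun h => h ⊤ (topEquiv (G := ↥J)).toMonoidHom (topEquiv (G := ↥J)).surjective

end JFree

theorem mulSingle_injective {n : ℕ} {M : Type v} [MulOneClass M] (i : Fin n) :
    Function.Injective (MonoidHom.mulSingle (fun _ : Fin n => M) i) := fun a b h => by simpa using congrFun h i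

/-- A nonabelian minimal normal subgroup is a power of a small group or of the Janko group. -/
theorem minimal_power {H : Type u} [Group H] [Finite H] (S : Shape H) {N : Subgroup H} [N.Normal] (hN : N ≠ ⊥)
    (hmin : ∀ M : Subgroup H, M.Normal → M ≤ N → M = ⊥ ∨ M = N) (hns : ¬ Group.IsSolvable N) :
    ∃ (T : Type) (_ : Group T) (_ : Finite T) (_ : IsSimpleGroup T) (m : ℕ) (e : N ≃* (Fin m → T)),
      0 < m ∧ (IsSmall T ∨ Nonempty (T ≃* J)) ∧ (∃ a b : T, a * b ≠ b * a) ∧ Shape T := by
  obtain ⟨T, iT, m, hT, hm, ⟨e⟩⟩ := Cfsg.Agent.S0721.result N hN hmin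
  haveI := hT
  let sg : T →* N := e.symm.toMonoidHom.comp (MonoidHom.mulSingle (fun _ : Fin m => T) ⟨0, hm⟩)
  have hsg : Function.Injective sg := e.symm.injective.comp (mulSingle_injective _)
  haveI : Finite T := Finite.of_injective sg hsg
  have hna : ¬ IsMulCommutative T := fun hh => hns (Group.isSolvable_of_comm fun a b => e.injective (by
    rw [map_mul, map_mul]
    exact funext fun i => hh.is_comm.comm _ _))
  have ST : Shape T := (S.subgroup N).of_injective sg hsg
  refine ⟨T, iT, inferInstance, hT, m, e, hm, kind ST hna, ?_, ST⟩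
  by_contra hc
  push Not at hc
  exact hna ⟨⟨hc⟩⟩

theorem solvable_pi {ι : Type v} {T : Type u} [Group T] (Q : Subgroup T) [Group.IsSolvable Q] {K : Type*} [Group K]
    (g : K →* (ι → Q)) (hg : Function.Injective g) : Group.IsSolvable K := by
  obtain ⟨n, hn⟩ := (Group.isSolvable_def Q).1 inferInstance
  suffices Group.IsSolvable (ι → Q) from Group.isSolvable_of_isSolvable_injective (f := g) hg
  refine (Group.isSolvable_def _).2 ⟨n, (Subgroup.eq_bot_iff_forall _).2 fun x hx => funext fun i => ?_⟩
  have h := map_derivedSeries_le_derivedSeries (Pi.evalMonoidHom (fun _ : ι => Q) i) n ⟨x, hx, rfl⟩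
  rw [hn, mem_bot] at h
  exact h

/-- A solvable subgroup meets every class of elements of order prime to six. -/
theorem exists_solvable_cover (k : ℕ) : ∀ (H : Type u) [Group H] [Finite H], Nat.card H ≤ k → Shape H → JFree H →
    ∃ K : Subgroup H, Group.IsSolvable K ∧ ∀ g : H, (orderOf g).Coprime 6 → ∃ a : H, a * g * a⁻¹ ∈ K := by
  classical
  induction k with
  | zero => intro H _ _ hk; exact absurd hk (by have := Nat.card_pos (α := H); omega)
  | succ k ih =>
    intro H _ _ hk S hfree
    rcases subsingleton_or_nontrivial H with hs | hs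
    · exact ⟨⊥, Group.isSolvable_of_comm fun a b => Subsingleton.elim _ _, fun g _ => ⟨1, by
        rw [Subsingleton.elim (1 * g * 1⁻¹) 1]; exact one_mem _⟩⟩
    obtain ⟨N, -, hNn, hN, hmin⟩ := Cfsg.Lib.Coprime.exists_minimal_normal (G := H) (K := ⊤) inferInstance top_ne_bot
    haveI := hNn
    have hlt : Nat.card (H ⧸ N) ≤ k := by
      have h1 := card_eq_card_quotient_mul_card_subgroup N
      have h2 : 1 < Nat.card N := (Subgroup.one_lt_card_iff_ne_bot N).2 hN
      have h3 : 0 < Nat.card (H ⧸ N) := Nat.card_pos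
      nlinarith
    obtain ⟨K₁, hK₁s, hK₁⟩ := ih (H ⧸ N) hlt (S.of_surjective _ (QuotientGroup.mk'_surjective N))
      (hfree.of_surjective _ (QuotientGroup.mk'_surjective N))
    haveI := hK₁s
    -- a supplement whose intersection with `N` is solvable, met by every relevant element
    obtain ⟨B, hBsup, hBs, hB⟩ : ∃ B : Subgroup H, (∀ g : H, ∃ b ∈ B, ∃ n ∈ N, g = b * n) ∧
        Group.IsSolvable (B ⊓ N : Subgroup H) ∧
        ∀ g : H, (orderOf g).Coprime 6 → ∃ a ∈ N, a * g * a⁻¹ ∈ B := by
      by_cases hns : Group.IsSolvable N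
      · exact ⟨⊤, fun g => ⟨g, mem_top g, 1, N.one_mem, by rw [mul_one]⟩,
          Group.isSolvable_of_isSolvable_injective (inclusion_injective (inf_le_right : (⊤ : Subgroup H) ⊓ N ≤ N)),
          fun g _ => ⟨1, N.one_mem, mem_top _⟩⟩
      obtain ⟨T, iT, iF, iS, m, e, hm, hkind, hTc, -⟩ := minimal_power S hN hmin hns
      have hsmall : IsSmall T := by
        rcases hkind with h | hj
        · exact h
        · exact absurd ((hfree.of_injective (N.subtype.comp (e.symm.toMonoidHom.comp
            (MonoidHom.mulSingle (fun _ : Fin m => T) ⟨0, hm⟩)))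
            (N.subtype_injective.comp (e.symm.injective.comp (mulSingle_injective _)))).of_surjective
            hj.some.toMonoidHom hj.some.surjective) JFree.not_janko
      obtain ⟨r, hr, hcount, hsolv⟩ := hsmall.sylow_facts
      haveI := hr
      obtain ⟨P⟩ := (inferInstance : Nonempty (Sylow r T))
      haveI := hsolv P
      set U₀ : Subgroup (Fin m → T) := Subgroup.pi Set.univ fun _ => (P : Subgroup T) with hU₀
      let ι : (Fin m → T) →* H := N.subtype.comp e.symm.toMonoidHom
      have hι : Function.Injective ι := N.subtype_injective.comp e.symm.injective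
      have hιr : ι.range = N := by
        rw [MonoidHom.range_comp, MonoidHom.range_eq_top.2 e.symm.surjective, ← MonoidHom.range_eq_map, range_subtype]
      haveI : ι.range.Normal := hιr.symm ▸ hNn
      have hsyl : ∀ Q : Sylow r T, ∃ c : T, (Q : Subgroup T) = (P : Subgroup T).map (MulAut.conj c).toMonoidHom :=
        fun Q => by
          obtain ⟨c, hc⟩ := MulAction.exists_smul_eq T P Q
          exact ⟨c, by rw [← hc]; rfl⟩
      have hauto : ∀ γ : MulAut T, ∃ n : T, (P : Subgroup T).map γ.toMonoidHom =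
          (P : Subgroup T).map (MulAut.conj n).toMonoidHom := fun γ => by
        obtain ⟨c, hc⟩ := hsyl (P.mapSurjective (f := γ.toMonoidHom) γ.surjective)
        exact ⟨c, hc⟩
      -- every relevant element fixes a product of Sylow subgroups
      have hfix : ∀ g : H, (orderOf g).Coprime 6 → ∃ n : Fin m → T,
          ∀ x ∈ U₀.map (MulAut.conj n).toMonoidHom, g * ι x * g⁻¹ ∈ (U₀.map (MulAut.conj n).toMonoidHom).map ι := by
        intro g hg
        obtain ⟨n, hn⟩ := exists_fixed_product (hT := hTc) (SuzSquare.autOf ι hι g) (P : Subgroup T) hauto fun β hβ => by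
          have hcop : (orderOf β).Coprime 6 :=
            (hg.coprime_dvd_left (orderOf_map_dvd (SuzSquare.autOf ι hι) g)).coprime_dvd_left hβ
          obtain ⟨d, rfl⟩ := hsmall.inner_of_odd β (Nat.odd_iff.2 (by
            by_contra h2
            have : 2 ∣ Nat.gcd (orderOf β) 6 := Nat.dvd_gcd (by omega) (by norm_num)
            rw [hcop] at this
            norm_num at this))
          have hconj : Function.Injective (MulAut.conj : T →* MulAut T) := by
            refine (injective_iff_map_eq_one _).2 fun z hz => ?_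
            rcases (inferInstance : (center T).Normal).eq_bot_or_eq_top with e' | e'
            · exact (Subgroup.eq_bot_iff_forall _).1 e' z (mem_center_iff.2 fun y =>
                (mul_inv_eq_iff_eq_mul.1 (DFunLike.congr_fun hz y : z * y * z⁻¹ = y)).symm)
            · obtain ⟨a, b, hab⟩ := hTc
              exact absurd (mem_center_iff.1 (e' ▸ mem_top b) a) hab
          rw [orderOf_injective _ hconj] at hcop
          have hd : ∃ (p : ℕ) (_ : Fact p.Prime), IsPGroup p (zpowers d) ∧ ¬ p ∣ Nat.card (Sylow r T) := by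
            rcases hsmall.order_coprime hcop with h | h | h
            · refine ⟨5, ⟨by norm_num⟩, IsPGroup.of_card (n := 0) (by rw [Nat.card_zpowers, h, pow_zero]), fun h' => ?_⟩
              exact absurd (h'.trans hcount) (by norm_num)
            · refine ⟨5, ⟨by norm_num⟩, IsPGroup.of_card (n := 1) (by rw [Nat.card_zpowers, h, pow_one]), fun h' => ?_⟩
              exact absurd (h'.trans hcount) (by norm_num)
            · refine ⟨11, ⟨by norm_num⟩, IsPGroup.of_card (n := 1) (by rw [Nat.card_zpowers, h, pow_one]), fun h' => ?_⟩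
              exact absurd (h'.trans hcount) (by norm_num)
          obtain ⟨p, hp, hpd, hnd⟩ := hd
          haveI := hp
          obtain ⟨Q, hQ⟩ := hpd.nonempty_fixed_point_of_prime_not_dvd_card (Sylow r T) hnd
          obtain ⟨c, hc⟩ := hsyl Q
          refine ⟨c, ?_⟩
          rw [← hc]
          exact congrArg (fun R : Sylow r T => (R : Subgroup T)) (hQ ⟨d, mem_zpowers d⟩)
        refine ⟨n, fun x hx => ?_⟩
        rw [← SuzSquare.autOf_spec hι g x]
        exact ⟨_, hn x hx, rfl⟩
      refine ⟨normalizer ((U₀.map ι : Subgroup H) : Set H), ?_, ?_, ?_⟩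
      · intro g
        -- the Frattini argument, from the conjugacy of Sylow subgroups in the factors
        obtain ⟨n, hn⟩ : ∃ n : Fin m → T, U₀.map (SuzSquare.autOf ι hι g).toMonoidHom =
            U₀.map (MulAut.conj n).toMonoidHom := exists_product_conj hTc (P : Subgroup T) hauto (SuzSquare.autOf ι hι g)
        refine ⟨(ι n)⁻¹ * g, mem_normalizer_fintype ?_, g⁻¹ * ι n * g, ?_, by group⟩
        · rintro _ ⟨x, hx, rfl⟩
          have h1 : SuzSquare.autOf ι hι g x ∈ U₀.map (MulAut.conj n).toMonoidHom := hn ▸ ⟨x, hx, rfl⟩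
          obtain ⟨y, hy, hye⟩ := h1
          refine ⟨y, hy, ?_⟩
          have h2 := SuzSquare.autOf_spec hι g x
          rw [← hye] at h2
          simp only [MulEquiv.coe_toMonoidHom, MulAut.conj_apply, map_mul, map_inv] at h2
          calc ι y = (ι n)⁻¹ * (ι n * ι y * (ι n)⁻¹) * ι n := by group
            _ = (ι n)⁻¹ * g * ι x * ((ι n)⁻¹ * g)⁻¹ := by rw [h2]; group
        · have h1 : ι n ∈ N := hιr ▸ ⟨n, rfl⟩
          simpa using hNn.conj_mem _ h1 g⁻¹
      · set B := normalizer ((U₀.map ι : Subgroup H) : Set H)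
        have hmem : ∀ x : (B ⊓ N : Subgroup H), ∀ i, e ⟨x, x.2.2⟩ i ∈ normalizer ((P : Subgroup T) : Set T) := by
          rintro ⟨x, hxB, hxN⟩ i
          refine mem_normalizer_fintype fun z hz => ?_
          have h1 : Pi.mulSingle i z ∈ U₀ := fun j _ => by
            by_cases hj : j = i
            · subst hj; rw [Pi.mulSingle_eq_same]; exact hz
            · simp [hj]
          obtain ⟨y, hy, hye⟩ := conj_mem_of_normalizer hxB (w := ι (Pi.mulSingle i z)) ⟨_, h1, rfl⟩
          have h2 : ι (e ⟨x, hxN⟩) = x := by simp [ι]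
          have h3 : y = e ⟨x, hxN⟩ * Pi.mulSingle i z * (e ⟨x, hxN⟩)⁻¹ := hι (by
            rw [hye, map_mul, map_mul, map_inv, h2])
          have h4 := hy i (Set.mem_univ i)
          rw [h3] at h4
          simp only [Pi.mul_apply, Pi.mulSingle_eq_same, Pi.inv_apply] at h4
          exact h4
        refine solvable_pi (normalizer ((P : Subgroup T) : Set T))
          { toFun := fun x i => ⟨e ⟨x, x.2.2⟩ i, hmem x i⟩
            map_one' := funext fun i => Subtype.ext (by
              show e ⟨(1 : H), _⟩ i = 1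
              rw [show (⟨(1 : H), N.one_mem⟩ : N) = 1 from rfl, map_one]; rfl)
            map_mul' := fun x y => funext fun i => Subtype.ext (by
              show e ⟨(x : H) * y, _⟩ i = e ⟨x, x.2.2⟩ i * e ⟨y, y.2.2⟩ i
              rw [← Pi.mul_apply, ← map_mul]; rfl) } fun x y h => Subtype.ext ?_
        exact congrArg (fun z : N => (z : H)) (e.injective (funext fun i => congrArg Subtype.val (congrFun h i)))
      · intro g hg
        obtain ⟨n, hn⟩ := hfix g hg
        refine ⟨(ι n)⁻¹, N.inv_mem (hιr ▸ ⟨n, rfl⟩), mem_normalizer_fintype ?_⟩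
        rintro _ ⟨x, hx, rfl⟩
        obtain ⟨y, ⟨z, hz, hzy⟩, hye⟩ := hn _ ⟨x, hx, rfl⟩
        refine ⟨z, hz, ?_⟩
        simp only [MulEquiv.coe_toMonoidHom, MulAut.conj_apply] at hzy hye
        rw [← hzy] at hye
        simp only [map_mul, map_inv] at hye
        calc ι z = (ι n)⁻¹ * (ι n * ι z * (ι n)⁻¹) * ι n := by group
          _ = (ι n)⁻¹ * g * (ι n)⁻¹⁻¹ * ι x * ((ι n)⁻¹ * g * (ι n)⁻¹⁻¹)⁻¹ := by rw [hye]; group
    set K := B ⊓ K₁.comap (QuotientGroup.mk' N) with hK
    refine ⟨K, ?_, fun g hg => ?_⟩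
    · haveI := hBs
      let φ : K →* K₁ := ((QuotientGroup.mk' N).comp K.subtype).codRestrict K₁ fun x => x.2.2
      haveI : Group.IsSolvable φ.ker := Group.isSolvable_of_isSolvable_injective
        (f := (K.subtype.comp φ.ker.subtype).codRestrict (B ⊓ N) fun x =>
          ⟨(x : K).2.1, (QuotientGroup.eq_one_iff _).1 (congrArg Subtype.val (MonoidHom.mem_ker.1 x.2))⟩)
        (fun x y h => Subtype.ext (Subtype.ext (congrArg (fun z : (B ⊓ N : Subgroup H) => (z : H)) h)))
      exact Group.isSolvable_of_ker_le_range φ.ker.subtype φ (by rw [range_subtype])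
    · obtain ⟨ā, hā⟩ := hK₁ (QuotientGroup.mk' N g) (hg.coprime_dvd_left (orderOf_map_dvd _ g))
      obtain ⟨a₀, rfl⟩ := QuotientGroup.mk'_surjective N ā
      obtain ⟨a₁, ha₁, hmem⟩ := hB (a₀ * g * a₀⁻¹) (by
        rwa [show a₀ * g * a₀⁻¹ = MulAut.conj a₀ g from rfl, MulEquiv.orderOf_eq])
      refine ⟨a₁ * a₀, ⟨by simpa [mul_assoc] using hmem, ?_⟩⟩
      show QuotientGroup.mk' N (a₁ * a₀ * g * (a₁ * a₀)⁻¹) ∈ K₁
      rw [map_mul, map_mul, map_inv, map_mul, show QuotientGroup.mk' N a₁ = 1 from (QuotientGroup.eq_one_iff a₁).2 ha₁,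
        one_mul]
      simpa [map_mul, map_inv] using hā

/-- A group with the orders of the square is not free of Janko sections. -/
theorem not_jfree {G : Type u} [Group G] [Finite G] (S : Shape G) (ho : HasOrd G) : ¬ JFree G := by
  intro hfree
  obtain ⟨K, hKs, hK⟩ := exists_solvable_cover (Nat.card G) G le_rfl S hfree
  refine Cfsg.Lib.FourPrimes.not_isSolvable (G := K) ({5, 7, 11, 19} : Finset ℕ) (by decide) ?_ ?_ ?_ hKs
  · intro p hp
    simp only [Finset.mem_insert, Finset.mem_singleton] at hp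
    rcases hp with rfl | rfl | rfl | rfl <;> norm_num
  · intro p hp q hq hne
    obtain ⟨a, ha, b, hb, hd, hcop⟩ : ∃ a ∈ ([6, 10, 7, 11, 19] : List ℕ), ∃ b ∈ ([6, 10, 7, 11, 19] : List ℕ),
        p * q ∣ Nat.lcm a b ∧ (p * q).Coprime 6 := by
      have key : ∀ p ∈ ({5, 7, 11, 19} : Finset ℕ), ∀ q ∈ ({5, 7, 11, 19} : Finset ℕ), p ≠ q →
          ∃ a ∈ ([6, 10, 7, 11, 19] : List ℕ), ∃ b ∈ ([6, 10, 7, 11, 19] : List ℕ),
            p * q ∣ Nat.lcm a b ∧ (p * q).Coprime 6 := by decide +kernel
      exact key p hp q hq hne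
    obtain ⟨g, hg⟩ := ho a ha b hb
    rw [← hg] at hd
    have hpow := orderOf_pow_orderOf_div (orderOf_pos g).ne' hd
    obtain ⟨c, hc⟩ := hK (g ^ (orderOf g / (p * q))) (by rw [hpow]; exact hcop)
    refine ⟨⟨_, hc⟩, ?_⟩
    rw [Subgroup.orderOf_mk, show c * g ^ (orderOf g / (p * q)) * c⁻¹ = MulAut.conj c (g ^ (orderOf g / (p * q))) from rfl,
      MulEquiv.orderOf_eq, hpow]
  · intro p hp q hq r hr h1 h2 h3 g hg
    have key : ∀ p ∈ ({5, 7, 11, 19} : Finset ℕ), ∀ q ∈ ({5, 7, 11, 19} : Finset ℕ), ∀ r ∈ ({5, 7, 11, 19} : Finset ℕ),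
        p ≠ q → q ≠ r → p ≠ r → okN (p * q * r) = false := by decide +kernel
    exact (S.subgroup K).not_dvd g (key p hp q hq r hr h1 h2 h3) hg.symm.dvd

end Cfsg.Lib.JankoSquare
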