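import Mathlib
import Cfsg.Agent.Janko.Automorphisms
import Cfsg.Agent.JankoSquare.Free

/-!
The socle of a group with trivial solvable radical, the shape of the square and a Janko section.
-/

set_option autoImplicit false
set_option linter.unusedSectionVars false

namespace Cfsg.Lib.JankoSquare

open Subgroup Cfsg.Lib.Janko

universe u v w

variable {H : Type u} [Group H] [Finite H]

theorem autOf_eq_one_iff {P : Type v} [Group P] {ι : P →* H} (hι : Function.Injective ι) [ι.range.Normal] (g : H) :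
    SuzSquare.autOf ι hι g = 1 ↔ g ∈ centralizer (ι.range : Set H) := by
  constructor
  · intro h
    refine mem_centralizer_iff.2 ?_
    rintro _ ⟨a, rfl⟩
    have e := SuzSquare.autOf_spec hι g a
    rw [h, MulAut.one_apply] at e
    exact (mul_inv_eq_iff_eq_mul.1 e.symm).symm
  · intro h
    refine MulEquiv.ext fun a => hι ?_
    rw [SuzSquare.autOf_spec hι, MulAut.one_apply, (mem_centralizer_iff.1 h _ ⟨a, rfl⟩).symm, mul_inv_cancel_right]

section Power

variable {T : Type w} [Group T] [Finite T] [IsSimpleGroup T] (hT : ∃ a b : T, a * b ≠ b * a) {m : ℕ}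
  {ι : (Fin m → T) →* H} (hι : Function.Injective ι) [hn : ι.range.Normal]

include hT

theorem sq_fixes (S : Shape H) (h2 : 2 ∣ Nat.card T) {g : H} (hg : g * g = 1) :
    perm hT (SuzSquare.autOf ι hι g) = 1 := by
  classical
  haveI : Fact (Nat.Prime 2) := ⟨Nat.prime_two⟩
  obtain ⟨a, ha⟩ := exists_prime_orderOf_dvd_card' (G := T) 2 h2
  have haa : a * a = 1 := by rw [← pow_two, ← ha, pow_orderOf_eq_one]
  have ha1 : a ≠ 1 := fun e => by rw [e, orderOf_one] at ha; omega
  set f := SuzSquare.autOf ι hι g with hf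
  refine Equiv.ext fun i => ?_
  by_contra hne
  have hne' : perm hT f i ≠ i := hne
  set x : Fin m → T := Pi.mulSingle i a with hx
  have hfi : f x i = 1 := by
    obtain ⟨k, hk⟩ := (perm hT f).surjective i
    have hki : k ≠ i := fun e => hne' (by rw [← e]; exact hk.trans e.symm)
    have h1 := (perm_spec hT f k x).2 (Pi.mulSingle_eq_of_ne (M := fun _ => T) hki a)
    rwa [hk] at h1
  have hfsq : ∀ l, f x l * f x l = 1 := fun l => by
    rw [← Pi.mul_apply, ← map_mul, hx, ← Pi.mulSingle_mul, haa, Pi.mulSingle_one, map_one, Pi.one_apply]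
  have hxi : x i = a := by rw [hx, Pi.mulSingle_eq_same]
  have hxl : ∀ l, l ≠ i → x l = 1 := fun l hl => by rw [hx]; exact Pi.mulSingle_eq_of_ne (M := fun _ => T) hl a
  have hz2 : (x * f x) * (x * f x) = 1 := funext fun l => by
    by_cases hl : l = i
    · subst hl; rw [Pi.mul_apply, Pi.mul_apply, hfi, hxi, mul_one, haa]; rfl
    · rw [Pi.mul_apply, Pi.mul_apply, hxl l hl, one_mul, hfsq l]; rfl
  have hz1 : x * f x ≠ 1 := fun e => ha1 (by
    have := congrFun e i
    rwa [Pi.mul_apply, hfi, hxi, mul_one] at this)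
  have hsq : (ι x * g) ^ 2 = ι (x * f x) := by
    rw [map_mul, hf, SuzSquare.autOf_spec hι g x, inv_eq_of_mul_eq_one_left hg, pow_two]
    group
  have h4 : (ι x * g) ^ 2 ^ 2 = 1 := by
    rw [show (2 : ℕ) ^ 2 = 2 * 2 by norm_num, pow_mul, hsq, pow_two, ← map_mul, hz2, map_one]
  have h5 := S.pow_prime Nat.prime_two h4
  rw [hsq, ← map_one ι] at h5
  exact hz1 (hι h5)

theorem odd_perm (S : Shape H) (h2 : 2 ∣ Nat.card T) :
    ¬ 2 ∣ Nat.card ((permHom hT).comp (SuzSquare.autOf ι hι)).range := by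
  intro hd
  haveI : Fact (Nat.Prime 2) := ⟨Nat.prime_two⟩
  obtain ⟨⟨σ, g, rfl⟩, hσ⟩ := exists_prime_orderOf_dvd_card' 2 hd
  replace hσ : orderOf (((permHom hT).comp (SuzSquare.autOf ι hι)) g) = 2 := (Subgroup.orderOf_coe _).trans hσ
  obtain ⟨n, -, hn, k, hk⟩ := exists_pow_map ((permHom hT).comp (SuzSquare.autOf ι hι)) hσ
  have h1 : ((permHom hT).comp (SuzSquare.autOf ι hι)) (g ^ n) = 1 :=
    sq_fixes hT hι S h2 (by rw [← pow_two]; exact S.pow_prime Nat.prime_two hk)
  rw [hn] at h1
  rw [h1, orderOf_one] at hσ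
  omega

theorem perm_trivial (S : Shape H) (h2 : 2 ∣ Nat.card T) (hm : m ≤ 2) (g : H) :
    perm hT (SuzSquare.autOf ι hι g) = 1 := by
  have h1 : Nat.card ((permHom hT).comp (SuzSquare.autOf ι hι)).range ∣ 2 := by
    refine (card_subgroup_dvd_card _).trans ?_
    rw [Nat.card_perm, Nat.card_fin]
    exact Nat.factorial_dvd_factorial hm
  have h3 : Nat.card ((permHom hT).comp (SuzSquare.autOf ι hι)).range = 1 :=
    ((Nat.dvd_prime Nat.prime_two).1 h1).resolve_right fun e => odd_perm hT hι S h2 (e.symm.dvd)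
  exact mem_bot.1 (card_eq_one.1 h3 ▸ ⟨g, rfl⟩ :
    ((permHom hT).comp (SuzSquare.autOf ι hι)) g ∈ (⊥ : Subgroup (Equiv.Perm (Fin m))))

theorem mem_range_or_cent (hinn : ∀ φ : MulAut T, ∃ c : T, φ = MulAut.conj c) {g : H}
    (hg : perm hT (SuzSquare.autOf ι hι g) = 1) : ∃ c, (ι c)⁻¹ * g ∈ centralizer (ι.range : Set H) := by
  choose c hc using fun i => hinn (comp hT (SuzSquare.autOf ι hι g) i)
  refine ⟨c, mem_centralizer_iff.2 ?_⟩
  rintro _ ⟨a, rfl⟩
  have h1 : SuzSquare.autOf ι hι g a = c * a * c⁻¹ := funext fun i => by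
    have h2 := comp_apply hT (SuzSquare.autOf ι hι g) i a
    rw [hg, Equiv.Perm.one_apply, hc i] at h2
    exact h2
  have e := SuzSquare.autOf_spec hι g a
  rw [h1, map_mul, map_mul, map_inv] at e
  calc ι a * ((ι c)⁻¹ * g) = (ι c)⁻¹ * (ι c * ι a * (ι c)⁻¹) * g := by group
    _ = (ι c)⁻¹ * g * ι a := by rw [e]; group

theorem range_free (S : Shape H) (hs : IsSmall T) : JFree (SuzSquare.autOf ι hι).range := by
  classical
  obtain ⟨h660, h4, haut⟩ := hs.card_dvd
  have h2 : 2 ∣ Nat.card T := (by norm_num : 2 ∣ 4).trans h4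
  haveI : Finite (MulAut T) := Finite.of_injective (fun φ => (φ : T → T)) DFunLike.coe_injective
  let θ := (permHom hT).comp (SuzSquare.autOf ι hι).range.subtype
  refine JFree.extension θ ?_ ?_
  · refine JFree.of_not_dvd (p := 19) (by norm_num) fun hd => ?_
    let Ψ : θ.ker →* (Fin m → MulAut T) :=
      MonoidHom.mk' (fun f i => stabHom hT i ⟨((f : (SuzSquare.autOf ι hι).range) : MulAut (Fin m → T)),
        show perm hT _ i = i from congrFun (congrArg DFunLike.coe (MonoidHom.mem_ker.1 f.2)) i⟩)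
        fun f f' => funext fun i => by rw [Pi.mul_apply, ← map_mul]; rfl
    have hΨ : Function.Injective Ψ := (injective_iff_map_eq_one _).2 fun f hf => by
      refine Subtype.ext (Subtype.ext (MulEquiv.ext fun x => funext fun i => ?_))
      have h1 := comp_apply hT ((f : (SuzSquare.autOf ι hι).range) : MulAut (Fin m → T)) i x
      have hi : perm hT ((f : (SuzSquare.autOf ι hι).range) : MulAut (Fin m → T)) i = i :=
        congrFun (congrArg DFunLike.coe (MonoidHom.mem_ker.1 f.2)) i
      rw [hi] at h1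
      rw [h1]
      exact DFunLike.congr_fun (congrFun hf i) (x i)
    have h1 := hd.trans (card_dvd_of_injective Ψ hΨ)
    rw [Nat.card_pi, Finset.prod_const, haut] at h1
    have h19 : Nat.Prime 19 := by norm_num
    exact absurd ((h19.dvd_of_dvd_pow h1).trans (mul_dvd_mul_left 2 h660)) (by norm_num)
  · refine JFree.of_not_dvd (p := 2) (by norm_num) fun hd => odd_perm hT hι S h2 ?_
    refine hd.trans (card_dvd_of_le ?_)
    rintro _ ⟨⟨_, g, rfl⟩, rfl⟩
    exact ⟨g, rfl⟩

end Power

/-- Three commuting elements of orders 7, 11 and 2. -/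
theorem no_three_orders (S : Shape H) {x y z : H} (hx : orderOf x = 7) (hy : orderOf y = 11) (hz : orderOf z = 2)
    (hxy : Commute x y) (hxz : Commute x z) (hyz : Commute y z) : False :=
  S.bad3 hx hy hz hxy hxz hyz (by norm_num) (by norm_num) (by decide +kernel)

theorem janko_involution : ∃ t : J, orderOf t = 2 := ⟨tJ, tJ_order⟩

/-- A minimal normal subgroup, as the image of a power. -/
theorem exists_factor (S : Shape H) (hsol : ∀ N : Subgroup H, N.Normal → Group.IsSolvable N → N = ⊥)
    {C : Subgroup H} [C.Normal] (hC : C ≠ ⊥) :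
    ∃ (T : Type) (_ : Group T) (_ : Finite T) (_ : IsSimpleGroup T) (m : ℕ) (ι : (Fin m → T) →* H),
      0 < m ∧ (∃ a b : T, a * b ≠ b * a) ∧ (IsSmall T ∨ Nonempty (T ≃* J)) ∧ Function.Injective ι ∧
        ι.range.Normal ∧ ι.range ≤ C := by
  obtain ⟨N, hNC, hNn, hN, hmin⟩ := Cfsg.Lib.Coprime.exists_minimal_normal (G := H) (K := C) inferInstance hC
  haveI := hNn
  obtain ⟨T, iT, iF, iS, m, e, hm, hkind, hTc, -⟩ := minimal_power S hN hmin fun h => hN (hsol N hNn h)
  have hr : (N.subtype.comp e.symm.toMonoidHom).range = N := by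
    rw [MonoidHom.range_comp, MonoidHom.range_eq_top.2 e.symm.surjective, ← MonoidHom.range_eq_map, range_subtype]
  exact ⟨T, iT, iF, iS, m, N.subtype.comp e.symm.toMonoidHom, hm, hTc, hkind,
    N.subtype_injective.comp e.symm.injective, hr.symm ▸ hNn, hr.symm ▸ hNC⟩

theorem two_dvd_kind {T : Type w} [Group T] [Finite T] (h : IsSmall T ∨ Nonempty (T ≃* J)) : 2 ∣ Nat.card T := by
  rcases h with h | he
  · exact (by norm_num : 2 ∣ 4).trans h.card_dvd.2.1
  · rw [Nat.card_congr he.some.toEquiv, card_J]; norm_num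

/-- The case of two Janko factors. -/
theorem two_factors (S : Shape H) (hsol : ∀ N : Subgroup H, N.Normal → Group.IsSolvable N → N = ⊥)
    (ι : (Fin 2 → J) →* H) (hι : Function.Injective ι) [hn : ι.range.Normal] : Nonempty (H ≃* J × J) := by
  classical
  haveI := finite_J
  haveI := janko_simple
  obtain ⟨t, ht⟩ := janko_involution
  have hs : ∀ (i : Fin 2) (a : J), orderOf (ι (Pi.mulSingle i a)) = orderOf a := fun i a => by
    rw [orderOf_injective ι hι]
    exact orderOf_injective (MonoidHom.mulSingle (fun _ : Fin 2 => J) i) (mulSingle_injective i) a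
  have hC : centralizer (ι.range : Set H) = ⊥ := by
    by_contra hne
    obtain ⟨T, iT, iF, iS, m, κ, hm, hTc, hkind, hκ, hκn, hκC⟩ := exists_factor S hsol hne
    haveI : Fact (Nat.Prime 2) := ⟨Nat.prime_two⟩
    obtain ⟨z, hz⟩ := exists_prime_orderOf_dvd_card' (G := T) 2 (two_dvd_kind hkind)
    have hcz : ∀ a, Commute (ι a) (κ (Pi.mulSingle ⟨0, hm⟩ z)) := fun a =>
      mem_centralizer_iff.1 (hκC ⟨_, rfl⟩) (ι a) ⟨a, rfl⟩
    exact no_three_orders S ((hs 0 genX).trans genX_order) ((hs 1 elevenElt).trans eleven_order)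
      (by rw [orderOf_injective κ hκ]; exact (orderOf_injective (MonoidHom.mulSingle (fun _ : Fin m => T) ⟨0, hm⟩)
        (mulSingle_injective _) z).trans hz)
      ((Pi.mulSingle_commute (f := fun _ : Fin 2 => J) (by decide) genX elevenElt).map ι) (hcz _) (hcz _)
  have hsurj : Function.Surjective ι := fun g => by
    obtain ⟨c, hc⟩ := mem_range_or_cent janko_noncomm hι (fun φ => by
      obtain ⟨c, hc⟩ := inner_all φ; exact ⟨c, hc.symm⟩) (g := g)
      (perm_trivial janko_noncomm hι S (by rw [card_J]; norm_num) le_rfl g)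
    rw [hC, mem_bot, inv_mul_eq_one] at hc
    exact ⟨c, hc⟩
  refine ⟨(MulEquiv.ofBijective ι ⟨hι, hsurj⟩).symm.trans
    { toFun := fun f => (f 0, f 1)
      invFun := fun p => ![p.1, p.2]
      left_inv := fun f => by funext i; fin_cases i <;> rfl
      right_inv := fun p => rfl
      map_mul' := fun f f' => rfl }⟩

/-- The case of one Janko factor and a nontrivial centralizer. -/
theorem one_factor (S : Shape H) (hsol : ∀ N : Subgroup H, N.Normal → Group.IsSolvable N → N = ⊥)
    (ι : (Fin 1 → J) →* H) (hι : Function.Injective ι) [hn : ι.range.Normal] :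
    Nonempty (H ≃* J) ∨ Nonempty (H ≃* J × J) ∨ ∃ (C : Subgroup H) (_ : H ≃* J × C) (a b : C),
      a * a = 1 ∧ b * b = 1 ∧ Commute a b ∧ a ≠ 1 ∧ b ≠ 1 ∧ a ≠ b ∧ ¬ 7 ∣ Nat.card C ∧ ¬ 19 ∣ Nat.card C := by
  classical
  haveI := finite_J
  haveI := janko_simple
  let one : J ≃* (Fin 1 → J) :=
    { toFun := fun a _ => a, invFun := fun f => f 0, left_inv := fun _ => rfl,
      right_inv := fun f => funext fun i => by rw [Subsingleton.elim i 0]
      map_mul' := fun _ _ => rfl }
  let j : J →* H := ι.comp one.toMonoidHom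
  have hj : Function.Injective j := hι.comp one.injective
  set C := centralizer (ι.range : Set H) with hC
  have hjc : ∀ (a : J) (c : C), Commute (j a) (c : H) := fun a c => mem_centralizer_iff.1 c.2 _ ⟨_, rfl⟩
  have hsurj : ∀ g : H, ∃ (a : J) (c : C), g = j a * c := fun g => by
    obtain ⟨c, hc⟩ := mem_range_or_cent janko_noncomm hι (fun φ => by
      obtain ⟨c, hc⟩ := inner_all φ; exact ⟨c, hc.symm⟩) (g := g)
      (perm_trivial janko_noncomm hι S (by rw [card_J]; norm_num) (by norm_num) g)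
    refine ⟨one.symm c, ⟨_, hc⟩, ?_⟩
    simp [j]
  let ψ : J × C →* H := j.noncommCoprod C.subtype hjc
  have hψ : Function.Bijective ψ := by
    refine ⟨(injective_iff_map_eq_one _).2 ?_, fun g => ?_⟩
    · rintro ⟨a, c⟩ h
      have h' : j a * (c : H) = 1 := h
      have ha : a = 1 := center_free fun s => hj (by
        rw [map_mul, map_mul, eq_inv_of_mul_eq_one_left h']
        exact ((hjc s c).symm.inv_left).eq)
      subst ha
      rw [map_one, one_mul] at h'
      exact Prod.ext rfl (Subtype.ext h')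
    · obtain ⟨a, c, rfl⟩ := hsurj g
      exact ⟨(a, c), rfl⟩
  let e := (MulEquiv.ofBijective ψ hψ).symm
  rcases eq_or_ne C ⊥ with hbot | hne
  · left
    have : Subsingleton C := by rw [hbot]; infer_instance
    exact ⟨(MulEquiv.ofBijective j ⟨hj, fun g => by
      obtain ⟨a, c, rfl⟩ := hsurj g
      exact ⟨a, by rw [Subsingleton.elim c 1]; simp⟩⟩).symm⟩
  obtain ⟨T, iT, iF, iS, m, κ, hm, hTc, hkind, hκ, hκn, hκC⟩ := exists_factor S hsol hne
  haveI := hκn
  have hκc : ∀ (a : J) x, Commute (j a) (κ x) := fun a x => hjc a ⟨_, hκC ⟨x, rfl⟩⟩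
  have hks : ∀ (i : Fin m) (a : T), orderOf (κ (Pi.mulSingle i a)) = orderOf a := fun i a => by
    rw [orderOf_injective κ hκ]
    exact orderOf_injective (MonoidHom.mulSingle (fun _ : Fin m => T) i) (mulSingle_injective i) a
  have hjo : ∀ a, orderOf (j a) = orderOf a := fun a => orderOf_injective j hj a
  rcases hkind with hsmall | heT
  · right; right
    obtain ⟨h660, h4, haut⟩ := hsmall.card_dvd
    haveI : Fact (Nat.Prime 2) := ⟨Nat.prime_two⟩
    haveI : Fact (Nat.Prime 3) := ⟨Nat.prime_three⟩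
    haveI : Fact (Nat.Prime 5) := ⟨by norm_num⟩
    haveI : Finite (MulAut T) := Finite.of_injective (fun φ => (φ : T → T)) DFunLike.coe_injective
    have h235 : 2 ∣ Nat.card T ∧ 3 ∣ Nat.card T ∧ 5 ∣ Nat.card T := by
      obtain ⟨r, n, -, hc, -⟩ := hsmall.card
      rcases hc with ⟨-, -, e⟩ | ⟨-, -, e⟩ <;> rw [e] <;> norm_num
    have hm2 : m ≤ 2 := by
      by_contra hlt
      obtain ⟨a, ha⟩ := exists_prime_orderOf_dvd_card' (G := T) 2 h235.1
      obtain ⟨b, hb⟩ := exists_prime_orderOf_dvd_card' (G := T) 3 h235.2.1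
      obtain ⟨d, hd⟩ := exists_prime_orderOf_dvd_card' (G := T) 5 h235.2.2
      have hc : ∀ {i k : Fin m}, i ≠ k → ∀ (x y : T), Commute (κ (Pi.mulSingle i x)) (κ (Pi.mulSingle k y)) :=
        fun h x y => (Pi.mulSingle_commute (f := fun _ : Fin m => T) h x y).map κ
      refine S.bad3 (x := κ (Pi.mulSingle ⟨0, hm⟩ a) * κ (Pi.mulSingle ⟨1, by omega⟩ b))
        (y := κ (Pi.mulSingle ⟨2, by omega⟩ d)) (z := j genX) (a := 6) (b := 5) (c := 7) ?_ ((hks _ d).trans hd)
        ((hjo _).trans genX_order) ((hc (by simp [Fin.ext_iff]) a d).mul_left (hc (by simp [Fin.ext_iff]) b d))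
        ((hκc _ _).symm.mul_left (hκc _ _).symm) (hκc _ _).symm (by norm_num) (by norm_num) (by decide +kernel)
      rw [(hc (by simp [Fin.ext_iff]) a b).orderOf_mul_eq_mul_orderOf_of_coprime (by rw [hks, hks, ha, hb]; norm_num),
        hks, hks, ha, hb]
    have hnot : ∀ p : ℕ, p = 7 ∨ p = 19 → ¬ p ∣ Nat.card C := by
      intro p hp hd
      haveI : Fact p.Prime := ⟨by rcases hp with rfl | rfl <;> norm_num⟩
      obtain ⟨⟨c, hcC⟩, hco⟩ := exists_prime_orderOf_dvd_card' p hd
      rw [Subgroup.orderOf_mk] at hco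
      have hperm := perm_trivial hTc hκ S h235.1 hm2 c
      have hcent : c ∈ centralizer (κ.range : Set H) := by
        rw [← autOf_eq_one_iff hκ]
        refine MulEquiv.ext fun x => funext fun i => ?_
        have h1 := comp_apply hTc (SuzSquare.autOf κ hκ c) i x
        rw [hperm, Equiv.Perm.one_apply] at h1
        rw [h1, MulAut.one_apply]
        have hmem : SuzSquare.autOf κ hκ c ∈ (MulAction.stabilizer (Equiv.Perm (Fin m)) i).comap (permHom hTc) := by
          show perm hTc (SuzSquare.autOf κ hκ c) i = i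
          rw [hperm]; rfl
        have h2 : orderOf (stabHom hTc i ⟨_, hmem⟩) ∣ p := by
          refine (orderOf_map_dvd (stabHom hTc i) _).trans ?_
          rw [Subgroup.orderOf_mk]
          exact hco ▸ orderOf_map_dvd (SuzSquare.autOf κ hκ) c
        have h3 : orderOf (stabHom hTc i ⟨_, hmem⟩) ∣ 1320 :=
          (_root_.orderOf_dvd_natCard _).trans (haut ▸ (mul_dvd_mul_left 2 h660).trans (by norm_num))
        have h4 : stabHom hTc i ⟨_, hmem⟩ = 1 := orderOf_eq_one_iff.1
          (Nat.eq_one_of_dvd_coprimes (by rcases hp with rfl | rfl <;> norm_num) h2 h3)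
        exact DFunLike.congr_fun h4 (x i)
      obtain ⟨a, ha⟩ := exists_prime_orderOf_dvd_card' (G := T) 2 h235.1
      refine S.bad3 hco ((hjo _).trans eleven_order) ((hks ⟨0, hm⟩ a).trans ha) (hjc _ ⟨c, hcC⟩).symm
        (mem_centralizer_iff.1 hcent _ ⟨_, rfl⟩).symm (hκc _ _) ?_ ?_ ?_
      all_goals rcases hp with rfl | rfl <;> first
        | decide +kernel
        | norm_num
    obtain ⟨Q, hQ⟩ := Sylow.exists_subgroup_card_pow_prime (G := T) 2 (n := 2) (by rw [show (2 : ℕ) ^ 2 = 4 by norm_num]; exact h4)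
    have hQp : IsPGroup 2 Q := IsPGroup.of_card hQ
    obtain ⟨a, b, ha, hb, hab⟩ : ∃ a b : Q, a ≠ 1 ∧ b ≠ 1 ∧ a ≠ b := by
      letI : Fintype Q := Fintype.ofFinite _
      have hcard : Fintype.card Q = 4 := by rw [← Nat.card_eq_fintype_card, hQ]; norm_num
      have h2 : 1 < ((Finset.univ : Finset Q).erase 1).card := by
        rw [Finset.card_erase_of_mem (Finset.mem_univ _), Finset.card_univ, hcard]; norm_num
      obtain ⟨a, ha, b, hb, hab⟩ := Finset.one_lt_card.1 h2
      exact ⟨a, b, Finset.ne_of_mem_erase ha, Finset.ne_of_mem_erase hb, hab⟩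
    let s : T →* C := (κ.comp (MonoidHom.mulSingle (fun _ : Fin m => T) ⟨0, hm⟩)).codRestrict C
      fun x => hκC ⟨_, rfl⟩
    have hs : Function.Injective s := fun x y h =>
      mulSingle_injective _ (hκ (congrArg Subtype.val h))
    have ST : Shape T := (S.subgroup C).of_injective s hs
    have sq : ∀ z : Q, (z : T) * z = 1 := fun z => by rw [← pow_two]; exact ST.pgroup_exp Nat.prime_two hQp z.2
    exact ⟨C, e, s a, s b, by rw [← map_mul, sq, map_one], by rw [← map_mul, sq, map_one],
      (ST.two_comm hQp a.2 b.2).map s, fun h => ha (Subtype.ext (hs (h.trans (map_one s).symm))),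
      fun h => hb (Subtype.ext (hs (h.trans (map_one s).symm))), fun h => hab (Subtype.ext (hs h)),
      hnot 7 (Or.inl rfl), hnot 19 (Or.inr rfl)⟩
  · right; left
    obtain ⟨eT⟩ := heT
    have hm1 : m = 1 := by
      by_contra hne
      obtain ⟨t, ht⟩ := janko_involution
      refine no_three_orders S ((hks ⟨0, hm⟩ (eT.symm genX)).trans ((MulEquiv.orderOf_eq _ _).trans genX_order))
        ((hks ⟨1, by omega⟩ (eT.symm elevenElt)).trans ((MulEquiv.orderOf_eq _ _).trans eleven_order))
        ((hjo t).trans ht) ((Pi.mulSingle_commute (f := fun _ : Fin m => T) (by simp [Fin.ext_iff]) _ _).map κ)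
        (hκc _ _).symm (hκc _ _).symm
    subst hm1
    let k : J →* H := κ.comp ((MonoidHom.mulSingle (fun _ : Fin 1 => T) 0).comp eT.symm.toMonoidHom)
    have hk : Function.Injective k := hκ.comp ((mulSingle_injective _).comp eT.symm.injective)
    have hkr : k.range = κ.range := by
      refine le_antisymm (fun x ⟨a, ha⟩ => ha ▸ ⟨_, rfl⟩) ?_
      rintro _ ⟨x, rfl⟩
      refine ⟨eT (x 0), congrArg κ (funext fun i => ?_)⟩
      rw [Subsingleton.elim i 0]
      simp
    have hjr : j.range = ι.range := by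
      rw [MonoidHom.range_comp, MonoidHom.range_eq_top.2 one.surjective, ← MonoidHom.range_eq_map]
    let two : (Fin 2 → J) ≃* J × J :=
      { toFun := fun f => (f 0, f 1)
        invFun := fun p => ![p.1, p.2]
        left_inv := fun f => by funext i; fin_cases i <;> rfl
        right_inv := fun p => rfl
        map_mul' := fun f f' => rfl }
    let ω : (Fin 2 → J) →* H := (j.noncommCoprod k fun a b => hκc a _).comp two.toMonoidHom
    have hωr : ω.range = ι.range ⊔ κ.range := by
      rw [MonoidHom.range_comp, MonoidHom.range_eq_top.2 two.surjective, ← MonoidHom.range_eq_map,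
        MonoidHom.noncommCoprod_range, hjr, hkr]
    haveI : ω.range.Normal := by rw [hωr]; infer_instance
    have hω : Function.Injective ω := by
      refine (((injective_iff_map_eq_one _).2 ?_) : Function.Injective (j.noncommCoprod k fun a b => hκc a _)).comp
        two.injective
      rintro ⟨a, b⟩ h
      have h' : j a * k b = 1 := h
      have hkC : k b ∈ C := hκC ⟨_, rfl⟩
      have h0 := hψ.1 (show ψ (a, ⟨k b, hkC⟩) = ψ 1 by rw [map_one]; exact h')
      have h0' : a = 1 ∧ (⟨k b, hkC⟩ : C) = 1 := ⟨congrArg Prod.fst h0, congrArg Prod.snd h0⟩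
      have hb1 : k b = 1 := congrArg Subtype.val h0'.2
      exact Prod.ext h0'.1 (hk (hb1.trans (map_one k).symm))
    exact two_factors S hsol ω hω

/-- The three possibilities above the radical. -/
theorem socle_cases (S : Shape H) (hsol : ∀ N : Subgroup H, N.Normal → Group.IsSolvable N → N = ⊥)
    (hnf : ¬ JFree H) :
    Nonempty (H ≃* J) ∨ Nonempty (H ≃* J × J) ∨ ∃ (C : Subgroup H) (_ : H ≃* J × C) (a b : C),
      a * a = 1 ∧ b * b = 1 ∧ Commute a b ∧ a ≠ 1 ∧ b ≠ 1 ∧ a ≠ b ∧ ¬ 7 ∣ Nat.card C ∧ ¬ 19 ∣ Nat.card C := by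
  classical
  obtain ⟨C₀, ⟨hC₀n, hC₀f⟩, hmin⟩ := (Set.toFinite {K : Subgroup H | ∃ _ : K.Normal,
      ∀ (Y : Type u) [Group Y] (f : H →* Y), Function.Surjective f → f.ker = K → JFree Y}).exists_minimal
    ⟨⊤, inferInstance, fun Y _ f hf hk => by
      haveI : Finite Y := Finite.of_surjective f hf
      haveI : Subsingleton Y := ⟨fun a b => by
        obtain ⟨x, rfl⟩ := hf a; obtain ⟨y, rfl⟩ := hf b
        rw [MonoidHom.mem_ker.1 (hk ▸ mem_top x), MonoidHom.mem_ker.1 (hk ▸ mem_top y)]⟩
      exact JFree.of_not_dvd (p := 2) (by norm_num) fun h => by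
        rw [Nat.card_of_subsingleton (1 : Y)] at h
        omega⟩
  haveI := hC₀n
  have hne : C₀ ≠ ⊥ := fun e => hnf (hC₀f H (MonoidHom.id H) Function.surjective_id (by rw [e, MonoidHom.ker_id]))
  obtain ⟨T, iT, iF, iS, m, ι, hm, hTc, hkind, hι, hn, hιC⟩ := exists_factor S hsol hne
  haveI := hn
  rcases hkind with hsmall | heT
  · exfalso
    set α := SuzSquare.autOf ι hι with hα
    have hker : α.ker = centralizer (ι.range : Set H) := Subgroup.ext fun g => autOf_eq_one_iff hι g
    have hfree : JFree α.range := range_free hTc hι S hsmall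
    -- the intersection is again good
    have hle : C₀ ≤ α.ker := by
      refine le_trans (hmin ⟨inferInstance, fun Y _ f hf hk => ?_⟩ inf_le_left) inf_le_right
      let g₁ : H →* H ⧸ C₀ := QuotientGroup.mk' C₀
      let q : Y →* (H ⧸ C₀) := f.liftOfSurjective hf ⟨g₁, fun x hx => by
        have : x ∈ C₀ ⊓ α.ker := hk ▸ hx
        exact (QuotientGroup.eq_one_iff x).2 this.1⟩
      refine JFree.extension q ?_ ?_
      · let r : Y →* α.range := f.liftOfSurjective hf ⟨α.rangeRestrict, fun x hx => by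
          have : x ∈ C₀ ⊓ α.ker := hk ▸ hx
          exact Subtype.ext this.2⟩
        refine hfree.of_injective (r.comp q.ker.subtype) ((injective_iff_map_eq_one _).2 fun y hy => ?_)
        obtain ⟨x, hx⟩ := hf (y : Y)
        have h1 : r (f x) = 1 := by rw [hx]; exact hy
        have h2 : q (f x) = 1 := by rw [hx]; exact y.2
        simp only [r, q, MonoidHom.liftOfRightInverse_comp_apply] at h1 h2
        have hmem : x ∈ C₀ ⊓ α.ker := ⟨(QuotientGroup.eq_one_iff x).1 h2, congrArg Subtype.val h1⟩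
        rw [← hk, MonoidHom.mem_ker, hx] at hmem
        exact Subtype.ext hmem
      · exact (hC₀f (H ⧸ C₀) (QuotientGroup.mk' C₀) (QuotientGroup.mk'_surjective C₀) (QuotientGroup.ker_mk' C₀)).of_injective
          q.range.subtype q.range.subtype_injective
    obtain ⟨a, b, hab⟩ := hTc
    let i₀ : Fin m := ⟨0, hm⟩
    have h1 : Commute (ι (Pi.mulSingle i₀ a)) (ι (Pi.mulSingle i₀ b)) :=
      (mem_centralizer_iff.1 (hker ▸ hle (hιC ⟨_, rfl⟩) :
        ι (Pi.mulSingle i₀ a) ∈ centralizer (ι.range : Set H)) _ ⟨_, rfl⟩).symm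
    rw [Commute, SemiconjBy, ← map_mul, ← map_mul] at h1
    have h2 := congrFun (hι h1) i₀
    simp only [Pi.mul_apply, Pi.mulSingle_eq_same] at h2
    exact hab h2
  · obtain ⟨eT⟩ := heT
    haveI := finite_J
    let ι' : (Fin m → J) →* H := ι.comp (MulEquiv.piCongrRight fun _ => eT.symm).toMonoidHom
    have hι' : Function.Injective ι' := hι.comp (MulEquiv.injective _)
    have hr : ι'.range = ι.range := by
      rw [MonoidHom.range_comp, MonoidHom.range_eq_top.2 (MulEquiv.surjective _), ← MonoidHom.range_eq_map]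
    haveI : ι'.range.Normal := hr.symm ▸ hn
    match m, hm, ι', hι', (inferInstance : ι'.range.Normal) with
    | 0, hm, _, _, _ => exact absurd hm (lt_irrefl 0)
    | 1, _, ι', hι', hn' => exact one_factor S hsol ι' hι' (hn := hn')
    | 2, _, ι', hι', hn' => exact Or.inr (Or.inl (two_factors S hsol ι' hι' (hn := hn')))
    | k + 3, _, ι', hι', _ =>
      exfalso
      obtain ⟨t, ht⟩ := janko_involution
      have hs : ∀ (i : Fin (k + 3)) (a : J), orderOf (ι' (Pi.mulSingle i a)) = orderOf a := fun i a => by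
        rw [orderOf_injective ι' hι']
        exact orderOf_injective (MonoidHom.mulSingle (fun _ : Fin (k + 3) => J) i) (mulSingle_injective i) a
      exact no_three_orders S ((hs ⟨0, by omega⟩ genX).trans genX_order)
        ((hs ⟨1, by omega⟩ elevenElt).trans eleven_order) ((hs ⟨2, by omega⟩ t).trans ht)
        ((Pi.mulSingle_commute (f := fun _ : Fin (k + 3) => J) (by simp [Fin.ext_iff]) _ _).map ι')
        ((Pi.mulSingle_commute (f := fun _ : Fin (k + 3) => J) (by simp [Fin.ext_iff]) _ _).map ι')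
        ((Pi.mulSingle_commute (f := fun _ : Fin (k + 3) => J) (by simp [Fin.ext_iff]) _ _).map ι')

end Cfsg.Lib.JankoSquare
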