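import Mathlib
import Cfsg.Agent.JankoSquare.CaseJTwo
import Cfsg.Agent.JankoSquare.CaseJJ
import Cfsg.Agent.JankoSquare.Socle

/-!
A group with the element orders of the square of the first Janko group is that square.
-/

set_option autoImplicit false
set_option linter.unusedSectionVars false

namespace Cfsg.Lib.JankoSquare

open Subgroup Cfsg.Lib.Janko

universe u

variable {G : Type u} [Group G] [Finite G]

theorem shape_of_orders (h : Set.range (orderOf : G → ℕ) = Set.range (orderOf : J × J → ℕ)) :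
    Shape G ∧ HasOrd G := by
  refine ⟨⟨fun g => ?_⟩, fun a ha b hb => ?_⟩
  · obtain ⟨⟨x, y⟩, hxy⟩ := (h ▸ ⟨g, rfl⟩ : orderOf g ∈ Set.range (orderOf : J × J → ℕ))
    obtain ⟨a, ha, hxa⟩ := janko_orders _ (orderOf_mem x)
    obtain ⟨b, hb, hyb⟩ := janko_orders _ (orderOf_mem y)
    refine ⟨a, ha, b, hb, ?_⟩
    rw [← hxy, Prod.orderOf_mk]
    exact Nat.lcm_dvd (hxa.trans (Nat.dvd_lcm_left _ _)) (hyb.trans (Nat.dvd_lcm_right _ _))
  · obtain ⟨x, hx⟩ := exists_orders a ha
    obtain ⟨y, hy⟩ := exists_orders b hb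
    obtain ⟨g, hg⟩ := (h.symm ▸ ⟨(x, y), rfl⟩ : orderOf (x, y) ∈ Set.range (orderOf : G → ℕ))
    exact ⟨g, by rw [hg, Prod.orderOf_mk, hx, hy]⟩

/-- Recognition by the set of element orders. -/
theorem iso_of_orders (h : Set.range (orderOf : G → ℕ) = Set.range (orderOf : J × J → ℕ)) :
    Nonempty (G ≃* J × J) := by
  classical
  haveI := finite_J
  obtain ⟨S, ho⟩ := shape_of_orders h
  obtain ⟨R, ⟨hRn, hRs⟩, hmax⟩ := (Set.toFinite {N : Subgroup G | N.Normal ∧ Group.IsSolvable N}).exists_maximal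
    ⟨⊥, inferInstance, inferInstance⟩
  haveI := hRn
  haveI := hRs
  set p := QuotientGroup.mk' R with hp
  have hp' : Function.Surjective p := QuotientGroup.mk'_surjective R
  have SH : Shape (G ⧸ R) := S.of_surjective p hp'
  have hsol : ∀ N : Subgroup (G ⧸ R), N.Normal → Group.IsSolvable N → N = ⊥ := by
    intro N hN hNs
    haveI := hN
    haveI := hNs
    set M := N.comap p
    have hRM : R ≤ M := fun r hr => by
      show p r ∈ N
      rw [show p r = 1 from (QuotientGroup.eq_one_iff r).2 hr]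
      exact one_mem _
    haveI : Group.IsSolvable M := Group.isSolvable_of_ker_le_range (inclusion hRM)
      ((p.comp M.subtype).codRestrict N fun x => x.2) fun x hx => by
      have h1 : p (x : G) = 1 := congrArg Subtype.val (MonoidHom.mem_ker.1 hx)
      exact ⟨⟨x, (QuotientGroup.eq_one_iff (x : G)).1 h1⟩, rfl⟩
    refine (Subgroup.eq_bot_iff_forall _).2 fun x hx => ?_
    obtain ⟨g, rfl⟩ := hp' x
    exact (QuotientGroup.eq_one_iff g).2 (hmax ⟨inferInstance, inferInstance⟩ hRM hx)
  have hnf : ¬ JFree (G ⧸ R) := fun hf => by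
    haveI : Group.IsSolvable p.ker := by rw [QuotientGroup.ker_mk']; exact hRs
    exact not_jfree S ho (JFree.extension p JFree.of_solvable (hf.of_injective p.range.subtype p.range.subtype_injective))
  rcases socle_cases SH hsol hnf with he | he | ⟨C, e, a, b, ha, hb, hab, ha1, hb1, hne, h7, h19⟩
  · obtain ⟨e⟩ := he
    haveI : Group.IsSolvable (e.toMonoidHom.comp p).ker := by
      rw [← MonoidHom.comap_ker, e.toMonoidHom.ker_eq_bot_iff.2 e.injective, MonoidHom.comap_bot, QuotientGroup.ker_mk']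
      exact hRs
    exact (not_one S ho (π := e.toMonoidHom.comp p) (e.surjective.comp hp')).elim
  · obtain ⟨e⟩ := he
    haveI : Group.IsSolvable (e.toMonoidHom.comp p).ker := by
      rw [← MonoidHom.comap_ker, e.toMonoidHom.ker_eq_bot_iff.2 e.injective, MonoidHom.comap_bot, QuotientGroup.ker_mk']
      exact hRs
    have hbot := ker_trivial S (π := e.toMonoidHom.comp p) (e.surjective.comp hp')
    exact ⟨MulEquiv.ofBijective (e.toMonoidHom.comp p) ⟨(MonoidHom.ker_eq_bot_iff _).1 hbot, e.surjective.comp hp'⟩⟩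
  · haveI : Group.IsSolvable (e.toMonoidHom.comp p).ker := by
      rw [← MonoidHom.comap_ker, e.toMonoidHom.ker_eq_bot_iff.2 e.injective, MonoidHom.comap_bot, QuotientGroup.ker_mk']
      exact hRs
    exact (not_prod S ho (π := e.toMonoidHom.comp p) (e.surjective.comp hp') ha hb hab ha1 hb1 hne h7 h19).elim

end Cfsg.Lib.JankoSquare
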